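import Groth.Agent.MLMod.Basic

/-!
# Mittag-Leffler modules: change of rings and tensor products
-/

set_option autoImplicit false
set_option backward.isDefEq.respectTransparency false

universe u

open TensorProduct

namespace Groth.Agent.MLMod

variable {R : Type u} [CommRing R]

section CancelEquiv

variable {S : Type u} [CommRing S] [Algebra R S] {M M' : Type u} [AddCommGroup M] [Module R M]
  [AddCommGroup M'] [Module R M']

/-- `(S ⊗ M) ⊗_S Z = M ⊗ Z`. -/
noncomputable def cancelEquiv (M : Type u) [AddCommGroup M] [Module R M] (Z : Type u) [AddCommGroup Z]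
    [Module S Z] [Module R Z] [IsScalarTower R S Z] : (S ⊗[R] M) ⊗[S] Z ≃+ M ⊗[R] Z :=
  ((TensorProduct.comm S (S ⊗[R] M) Z).trans
      (AlgebraTensorModule.cancelBaseChange R S S Z M)).toAddEquiv.trans
    (TensorProduct.comm R Z M).toAddEquiv

theorem cancelEquiv_tmul (Z : Type u) [AddCommGroup Z]
    [Module S Z] [Module R Z] [IsScalarTower R S Z] (s : S) (m : M) (z : Z) :
    cancelEquiv M Z ((s ⊗ₜ[R] m) ⊗ₜ[S] z) = m ⊗ₜ[R] (s • z) := rfl

theorem cancelEquiv_rTensor (f : M →ₗ[R] M') (Z : Type u) [AddCommGroup Z] [Module S Z] [Module R Z]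
    [IsScalarTower R S Z] (x : (S ⊗[R] M) ⊗[S] Z) :
    cancelEquiv M' Z ((f.baseChange S).rTensor Z x) = f.rTensor Z (cancelEquiv M Z x) := by
  induction x with
  | zero => simp
  | tmul w z =>
    induction w with
    | zero => simp
    | tmul s m => rfl
    | add a b ha hb => simp only [TensorProduct.add_tmul, map_add, ha, hb]
  | add a b ha hb => simp only [map_add, ha, hb]

theorem cancelEquiv_lTensor {Z Z' : Type u} [AddCommGroup Z] [Module S Z] [Module R Z]
    [IsScalarTower R S Z] [AddCommGroup Z'] [Module S Z'] [Module R Z'] [IsScalarTower R S Z']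
    (φ : Z →ₗ[S] Z') (x : (S ⊗[R] M) ⊗[S] Z) :
    cancelEquiv M Z' (φ.lTensor (S ⊗[R] M) x) = (φ.restrictScalars R).lTensor M (cancelEquiv M Z x) := by
  induction x with
  | zero => simp
  | tmul w z =>
    induction w with
    | zero => simp
    | tmul s m =>
      rw [LinearMap.lTensor_tmul, cancelEquiv_tmul, cancelEquiv_tmul, LinearMap.lTensor_tmul,
        LinearMap.restrictScalars_apply, map_smul]
    | add a b ha hb => simp only [TensorProduct.add_tmul, map_add, ha, hb]
  | add a b ha hb => simp only [map_add, ha, hb]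

theorem isML_baseChange (hM : CAlg.IsMittagLeffler R M) : CAlg.IsMittagLeffler S (S ⊗[R] M) := by
  intro ι Q _ _
  letI : ∀ i, Module R (Q i) := fun i => Module.compHom _ (algebraMap R S)
  haveI : ∀ i, IsScalarTower R S (Q i) := fun i => IsScalarTower.of_algebraMap_smul fun _ _ => rfl
  rw [injective_iff_map_eq_zero]
  intro x hx
  apply (cancelEquiv M (∀ i, Q i)).injective
  rw [map_zero]
  refine hM ι Q (funext fun i => ?_)
  rw [map_zero, piRightHom_eq]
  refine (cancelEquiv_lTensor (LinearMap.proj i : (∀ i, Q i) →ₗ[S] Q i) x).symm.trans ?_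
  rw [← piRightHom_eq, hx, Pi.zero_apply, map_zero]
  rfl

/-- The Mittag-Leffler property descends along faithfully flat ring maps. -/
theorem isML_of_faithfullyFlat [Module.FaithfullyFlat R S]
    (h : CAlg.IsMittagLeffler S (S ⊗[R] M)) : CAlg.IsMittagLeffler R M := by
  refine isML_of_dominated fun n f => ?_
  let π := Finsupp.linearCombination R (id : M → M)
  have hπ : Function.Surjective π := Finsupp.linearCombination_id_surjective R M
  obtain ⟨f', hf'⟩ := Module.projective_lifting_property π f hπ
  obtain ⟨⟨K, hK, hKπ⟩, hdom⟩ := exists_dominating h ((π.comp f').baseChange S)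
    (J := {K : Submodule R (M →₀ R) // K.FG ∧ K ≤ LinearMap.ker π})
    (fun K => (K.1.mkQ.comp f').baseChange S) fun Z _ _ x hx => by
      letI : Module R Z := Module.compHom _ (algebraMap R S)
      haveI : IsScalarTower R S Z := IsScalarTower.of_algebraMap_smul fun _ _ => rfl
      have hx' := congrArg (cancelEquiv M Z) hx
      rw [cancelEquiv_rTensor, map_zero, LinearMap.rTensor_comp_apply] at hx'
      obtain ⟨z, hz⟩ := mem_range_of_rTensor_eq_zero π hπ Z _ hx'
      obtain ⟨L, hL, hLK, w, hw⟩ := exists_fg_of_mem_range _ Z z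
      refine ⟨⟨L, hL, hLK⟩, (cancelEquiv _ Z).injective ?_⟩
      rw [cancelEquiv_rTensor, map_zero, LinearMap.rTensor_comp_apply, ← hz, ← hw,
        ← LinearMap.rTensor_comp_apply, show L.mkQ.comp L.subtype = 0 by ext k; simp]
      simp
  have key : ∀ (Z : Type u) [AddCommGroup Z] [Module R Z] (x : (Fin n → R) ⊗[R] Z),
      f.rTensor Z x = 0 → (K.mkQ.comp f').rTensor Z x = 0 := by
    intro Z _ _ x hx
    rw [← hf'] at hx
    let ι : Z →ₗ[R] S ⊗[R] Z := TensorProduct.mk R S Z 1
    let x' := (cancelEquiv (S := S) (Fin n → R) (S ⊗[R] Z)).symm (ι.lTensor _ x)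
    have h1 : ((π.comp f').baseChange S).rTensor (S ⊗[R] Z) x' = 0 := by
      apply (cancelEquiv M (S ⊗[R] Z)).injective
      rw [cancelEquiv_rTensor, map_zero, AddEquiv.apply_symm_apply, ← LinearMap.comp_apply,
        LinearMap.rTensor_comp_lTensor, ← LinearMap.lTensor_comp_rTensor, LinearMap.comp_apply, hx,
        map_zero]
    have h2 := congrArg (cancelEquiv ((M →₀ R) ⧸ K) (S ⊗[R] Z)) (hdom _ x' h1)
    rw [cancelEquiv_rTensor, map_zero, AddEquiv.apply_symm_apply, ← LinearMap.comp_apply,
      LinearMap.rTensor_comp_lTensor, ← LinearMap.lTensor_comp_rTensor, LinearMap.comp_apply] at h2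
    have hinj : Function.Injective (ι.lTensor ((M →₀ R) ⧸ K)) := by
      have e : ∀ y, TensorProduct.leftComm R ((M →₀ R) ⧸ K) S Z (ι.lTensor _ y) =
          (1 : S) ⊗ₜ y := fun y => by
        induction y with
        | zero => simp
        | tmul a b => rfl
        | add a b ha hb => rw [map_add, map_add, ha, hb, TensorProduct.tmul_add]
      intro a b hab
      exact Module.FaithfullyFlat.tensorProduct_mk_injective (A := R) (B := S) _
        ((e a).symm.trans ((congrArg _ hab).trans (e b)))
    exact hinj (h2.trans (map_zero _).symm)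
  refine ⟨_, inferInstance, inferInstance, K.mkQ.comp f', isML_quotient K hK isML_of_free,
    fun Z _ _ => ker_eq_of_dominated (c := K.liftQ π hKπ) ?_ key Z⟩
  rw [← LinearMap.comp_assoc, Submodule.liftQ_mkQ, hf']

end CancelEquiv

section RestrictScalars

variable {S : Type u} [CommRing S] [Algebra R S] {M : Type u} [AddCommGroup M] [Module S M]
  [Module R M] [IsScalarTower R S M]

theorem isML_restrictScalars (hM : CAlg.IsMittagLeffler S M)
    (hinj : ∀ (ι : Type u) (Q : ι → Type u) [∀ i, AddCommGroup (Q i)] [∀ i, Module R (Q i)],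
      Function.Injective ((piRightHom R S S Q).lTensor M)) :
    CAlg.IsMittagLeffler R M := by
  intro ι Q _ _
  rw [injective_iff_map_eq_zero]
  intro x hx
  let e : ∀ (Z : Type u) [AddCommGroup Z] [Module R Z], M ⊗[S] (S ⊗[R] Z) ≃ₗ[S] M ⊗[R] Z :=
    fun Z _ _ => AlgebraTensorModule.cancelBaseChange R S S M Z
  have nat : ∀ (i : ι) (x : M ⊗[R] (∀ i, Q i)),
      piRightHom S S M (fun i => S ⊗[R] Q i) ((piRightHom R S S Q).lTensor M ((e _).symm x)) i =
        (e (Q i)).symm (piRightHom R R M Q x i) := by
    intro i x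
    induction x with
    | zero => simp
    | tmul m q => rfl
    | add a b ha hb => simp only [map_add, Pi.add_apply, ha, hb]
  apply (e _).symm.injective
  rw [map_zero]
  refine hinj ι Q ((hM ι (fun i => S ⊗[R] Q i) (funext fun i => ?_)).trans (map_zero _).symm)
  rw [nat, hx, Pi.zero_apply, map_zero, map_zero, Pi.zero_apply]

theorem piRightHom_alg_eq {ι : Type u} (Q : ι → Type u) [∀ i, AddCommGroup (Q i)] [∀ i, Module R (Q i)]
    (x : S ⊗[R] (∀ i, Q i)) : piRightHom R S S Q x = piRightHom R R S Q x := by
  induction x with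
  | zero => simp
  | tmul s q => rfl
  | add a b ha hb => simp [ha, hb]

theorem isML_restrictScalars_of_flat [Module.Flat S M] (hS : CAlg.IsMittagLeffler R S)
    (hM : CAlg.IsMittagLeffler S M) : CAlg.IsMittagLeffler R M :=
  isML_restrictScalars hM fun ι Q _ _ =>
    Module.Flat.lTensor_preserves_injective_linearMap _ fun a b h =>
      hS ι Q (by rwa [← piRightHom_alg_eq, ← piRightHom_alg_eq])

theorem isML_restrictScalars_of_finitePresentation [Module.FinitePresentation R S]
    (hM : CAlg.IsMittagLeffler S M) : CAlg.IsMittagLeffler R M :=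
  isML_restrictScalars hM fun ι Q _ _ => by
    have hb : Function.Bijective (piRightHom R S S Q) := by
      rw [show ⇑(piRightHom R S S Q) = ⇑(piRightHom R R S Q) from funext (piRightHom_alg_eq Q)]
      exact ⟨isML_of_finitePresentation ι Q, piRightHom_surjective⟩
    exact ((LinearEquiv.ofBijective _ hb).lTensor M).injective

end RestrictScalars

section Tensor

variable {M N : Type u} [AddCommGroup M] [Module R M] [AddCommGroup N] [Module R N]

theorem isML_tensor_of_finitePresentation [Module.FinitePresentation R N]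
    (hM : CAlg.IsMittagLeffler R M) : CAlg.IsMittagLeffler R (M ⊗[R] N) := by
  intro ι Q _ _
  rw [injective_iff_map_eq_zero]
  intro x hx
  have hb : Function.Bijective (piRightHom R R N Q) := ⟨isML_of_finitePresentation ι Q, piRightHom_surjective⟩
  have nat : ∀ (i : ι) (x : (M ⊗[R] N) ⊗[R] (∀ i, Q i)),
      piRightHom R R M (fun i => N ⊗[R] Q i) ((piRightHom R R N Q).lTensor M (TensorProduct.assoc R M N _ x)) i =
        TensorProduct.assoc R M N (Q i) (piRightHom R R (M ⊗[R] N) Q x i) := by
    intro i x
    induction x with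
    | zero => simp
    | tmul w q =>
      induction w with
      | zero => simp
      | tmul m n => rfl
      | add a b ha hb => simp only [TensorProduct.add_tmul, map_add, Pi.add_apply, ha, hb]
    | add a b ha hb => simp only [map_add, Pi.add_apply, ha, hb]
  apply (TensorProduct.assoc R M N _).injective
  rw [map_zero]
  refine ((LinearEquiv.ofBijective _ hb).lTensor M).injective ?_
  rw [map_zero]
  refine (hM ι (fun i => N ⊗[R] Q i) (funext fun i => ?_)).trans rfl
  rw [map_zero]
  refine (nat i x).trans ?_
  rw [hx, Pi.zero_apply, map_zero]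
  rfl

theorem lTensor_rTensor_eq_zero_iff {B B' Z : Type u} [AddCommGroup B] [Module R B] [AddCommGroup B'] [Module R B']
    [AddCommGroup Z] [Module R Z] (A : Type u) [AddCommGroup A] [Module R A] (ψ : B →ₗ[R] B')
    (y : A ⊗[R] (B ⊗[R] Z)) :
    (ψ.rTensor Z).lTensor A y = 0 ↔ ψ.rTensor (A ⊗[R] Z) (TensorProduct.leftComm R A B Z y) = 0 := by
  have e : ∀ y, TensorProduct.leftComm R A B' Z ((ψ.rTensor Z).lTensor A y) =
      ψ.rTensor (A ⊗[R] Z) (TensorProduct.leftComm R A B Z y) := fun y => by
    induction y with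
    | zero => simp
    | tmul a w =>
      induction w with
      | zero => simp
      | tmul b z => rfl
      | add a b ha hb => simp only [TensorProduct.tmul_add, map_add, ha, hb]
    | add a b ha hb => simp only [map_add, ha, hb]
  rw [← e, LinearEquiv.map_eq_zero_iff]

theorem isML_tensor (hM : CAlg.IsMittagLeffler R M) (hN : CAlg.IsMittagLeffler R N) :
    CAlg.IsMittagLeffler R (M ⊗[R] N) := by
  classical
  refine isML_of_dominated fun n f => ?_
  obtain ⟨M', N', hM', hN', hs⟩ := TensorProduct.exists_finite_submodule_of_setFinite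
    (Set.range fun i => f (Pi.single i 1)) (Set.finite_range _)
  obtain ⟨a, v, hv⟩ := Module.Finite.exists_fin (R := R) (M := M')
  obtain ⟨b, w, hw⟩ := Module.Finite.exists_fin (R := R) (M := N')
  let φ := M'.subtype.comp (Fintype.linearCombination R v)
  let ψ := N'.subtype.comp (Fintype.linearCombination R w)
  have hle : ∀ i, f (Pi.single i 1) ∈ LinearMap.range (TensorProduct.map φ ψ) := fun i => by
    obtain ⟨y, hy⟩ := hs ⟨i, rfl⟩
    obtain ⟨z, rfl⟩ := TensorProduct.map_surjective
      (show Function.Surjective (Fintype.linearCombination R v) by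
        rw [← LinearMap.range_eq_top, Fintype.range_linearCombination, hv])
      (show Function.Surjective (Fintype.linearCombination R w) by
        rw [← LinearMap.range_eq_top, Fintype.range_linearCombination, hw]) y
    refine ⟨z, Eq.trans ?_ hy⟩
    rw [TensorProduct.mapIncl, ← LinearMap.comp_apply, ← TensorProduct.map_comp]
  choose z hz using hle
  let h := Fintype.linearCombination R z
  have hf : f = (TensorProduct.map φ ψ).comp h := by
    apply LinearMap.pi_ext'
    intro i
    apply LinearMap.ext_ring
    simp [h, hz, Fintype.linearCombination_apply_single]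
  obtain ⟨A, _, _, _, φ', hφ⟩ := (isML_iff_dominated.1 hM) a φ
  obtain ⟨B, _, _, _, ψ', hψ⟩ := (isML_iff_dominated.1 hN) b ψ
  refine ⟨A ⊗[R] B, inferInstance, inferInstance, (TensorProduct.map φ' ψ').comp h,
    isML_tensor_of_finitePresentation isML_of_finitePresentation, fun Z _ _ => ?_⟩
  have key : ∀ {X Y : Type u} [AddCommGroup X] [Module R X] [AddCommGroup Y] [Module R Y]
      (α : (Fin a → R) →ₗ[R] X) (β : (Fin b → R) →ₗ[R] Y) (x : ((Fin a → R) ⊗[R] (Fin b → R)) ⊗[R] Z),
      (TensorProduct.map α β).rTensor Z x = 0 ↔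
        TensorProduct.map α (β.rTensor Z) (TensorProduct.assoc R _ _ Z x) = 0 := by
    intro X Y _ _ _ _ α β x
    have e : ∀ x, TensorProduct.assoc R X Y Z ((TensorProduct.map α β).rTensor Z x) =
        TensorProduct.map α (β.rTensor Z) (TensorProduct.assoc R _ _ Z x) := fun x => by
      induction x with
      | zero => simp
      | tmul w z =>
        induction w with
        | zero => simp
        | tmul m n => rfl
        | add a b ha hb => simp only [TensorProduct.add_tmul, map_add, ha, hb]
      | add a b ha hb => simp only [map_add, ha, hb]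
    rw [← e, LinearEquiv.map_eq_zero_iff]
  ext x
  rw [LinearMap.mem_ker, LinearMap.mem_ker, hf, LinearMap.rTensor_comp_apply,
    LinearMap.rTensor_comp_apply, key, key]
  generalize TensorProduct.assoc R _ _ Z (h.rTensor Z x) = y
  rw [← LinearMap.rTensor_comp_lTensor, ← LinearMap.lTensor_comp_rTensor (f := φ'), LinearMap.comp_apply,
    LinearMap.comp_apply, ← LinearMap.mem_ker, hφ (N ⊗[R] Z), LinearMap.mem_ker, ← LinearMap.comp_apply,
    LinearMap.rTensor_comp_lTensor, ← LinearMap.lTensor_comp_rTensor, LinearMap.comp_apply,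
    lTensor_rTensor_eq_zero_iff, lTensor_rTensor_eq_zero_iff, ← LinearMap.mem_ker, hψ (A ⊗[R] Z),
    LinearMap.mem_ker]

end Tensor

end Groth.Agent.MLMod
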