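import Groth.Agent.MLMod.Countable
import Groth.Agent.MLMod.Ops
import Groth.Agent.FlatModB.FFDesc

/-!
Faithfully flat descent of countable generation and of projectivity (Raynaud–Gruson).
-/

set_option autoImplicit false
universe u
open TensorProduct

namespace Groth.Agent.MLMod

variable {R S : Type u} [CommRing R] [CommRing S] [Algebra R S] {M : Type u} [AddCommGroup M] [Module R M]

theorem exists_finite_rep (y : S ⊗[R] M) :
    ∃ T : Set M, T.Finite ∧ y ∈ Submodule.span S (TensorProduct.mk R S M 1 '' T) := by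
  induction y using TensorProduct.induction_on with
  | zero => exact ⟨∅, Set.finite_empty, zero_mem _⟩
  | tmul s m =>
    refine ⟨{m}, Set.finite_singleton m, ?_⟩
    have h := Submodule.smul_mem (Submodule.span S (TensorProduct.mk R S M 1 '' {m})) s
      (Submodule.subset_span ⟨m, rfl, rfl⟩)
    rwa [TensorProduct.mk_apply, smul_tmul', smul_eq_mul, mul_one] at h
  | add a b ha hb =>
    obtain ⟨T, hT, ha⟩ := ha
    obtain ⟨U, hU, hb⟩ := hb
    exact ⟨T ∪ U, hT.union hU,
      add_mem (Submodule.span_mono (Set.image_mono Set.subset_union_left) ha)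
        (Submodule.span_mono (Set.image_mono Set.subset_union_right) hb)⟩

theorem exists_countable_rep (t : Set (S ⊗[R] M)) (ht : t.Countable) :
    ∃ T : Set M, T.Countable ∧ t ⊆ Submodule.span S (TensorProduct.mk R S M 1 '' T) := by
  choose T hT hy using fun y : S ⊗[R] M => exists_finite_rep (R := R) y
  exact ⟨⋃ y ∈ t, T y, ht.biUnion fun y _ => (hT y).countable,
    fun y hyt => Submodule.span_mono (Set.image_mono (Set.subset_biUnion_of_mem hyt)) (hy y)⟩

theorem eq_top_of_baseChange_eq_top [Module.FaithfullyFlat R S] (N : Submodule R M)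
    (h : N.baseChange S = ⊤) : N = ⊤ := by
  have hsub : Subsingleton (S ⊗[R] (M ⧸ N)) := by
    refine subsingleton_of_forall_eq 0 fun z => ?_
    obtain ⟨y, rfl⟩ := LinearMap.lTensor_surjective S N.mkQ_surjective z
    obtain ⟨w, rfl⟩ : y ∈ LinearMap.range (N.subtype.baseChange S) := by
      show y ∈ N.baseChange S
      rw [h]
      trivial
    rw [LinearMap.baseChange_eq_ltensor, ← LinearMap.lTensor_comp_apply,
      show N.mkQ ∘ₗ N.subtype = 0 from LinearMap.ext fun x => (Submodule.Quotient.mk_eq_zero _).2 x.2,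
      LinearMap.lTensor_zero, LinearMap.zero_apply]
  rw [← Submodule.Quotient.subsingleton_iff]
  exact (Module.FaithfullyFlat.subsingleton_tensorProduct_iff_right R S).1 hsub

theorem isCountablyGenerated_of_baseChange [Module.FaithfullyFlat R S]
    (h : CAlg.IsCountablyGenerated S (S ⊗[R] M)) : CAlg.IsCountablyGenerated R M := by
  obtain ⟨t, ht, htop⟩ := h
  obtain ⟨T, hT, hsub⟩ := exists_countable_rep t ht
  refine ⟨T, hT, eq_top_of_baseChange_eq_top (S := S) _ (top_le_iff.1 ?_)⟩
  rw [Submodule.baseChange_span, ← htop]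
  exact Submodule.span_le.2 hsub

/-- Every countable set can be enlarged to one whose span is adapted to the decomposition. -/
theorem exists_adapted {I : Type u} (Q : I → Submodule S (S ⊗[R] M)) (hQ : ⨆ i, Q i = ⊤)
    (hQc : ∀ i, ∃ t : Set (S ⊗[R] M), t.Countable ∧ Submodule.span S t = Q i)
    (T₀ : Set M) (hT₀ : T₀.Countable) :
    ∃ (T : Set M) (I' : Set I), T₀ ⊆ T ∧ T.Countable ∧
      (Submodule.span R T).baseChange S = ⨆ i ∈ I', Q i := by
  classical
  choose t htc hts using hQc
  choose F hF using fun y : S ⊗[R] M =>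
    Submodule.exists_finset_of_mem_iSup Q (show y ∈ ⨆ i, Q i by rw [hQ]; trivial)
  let idx : Set M → Set I := fun T => ⋃ m ∈ T, (F (TensorProduct.mk R S M 1 m) : Set I)
  have hidx : ∀ T : Set M, T.Countable → (idx T).Countable := fun T hT =>
    hT.biUnion fun m _ => (F _).finite_toSet.countable
  have hle : ∀ T : Set M, Submodule.span S (TensorProduct.mk R S M 1 '' T) ≤ ⨆ i ∈ idx T, Q i := by
    intro T
    rw [Submodule.span_le]
    rintro _ ⟨m, hm, rfl⟩
    refine (iSup₂_le fun i hi => le_iSup₂_of_le i ?_ le_rfl : (⨆ i ∈ F (TensorProduct.mk R S M 1 m), Q i) ≤ _)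
      (hF _)
    exact Set.mem_biUnion hm hi
  have hstep : ∀ T : {T : Set M // T.Countable}, ∃ T' : {T : Set M // T.Countable}, T.1 ⊆ T'.1 ∧
      ∀ i ∈ idx T.1, Q i ≤ Submodule.span S (TensorProduct.mk R S M 1 '' T'.1) := by
    rintro ⟨T, hT⟩
    obtain ⟨U, hU, hsub⟩ := exists_countable_rep (R := R) (⋃ i ∈ idx T, t i)
      ((hidx T hT).biUnion fun i _ => htc i)
    refine ⟨⟨T ∪ U, hT.union hU⟩, Set.subset_union_left, fun i hi => ?_⟩
    rw [← hts i, Submodule.span_le]
    exact ((Set.subset_biUnion_of_mem hi).trans hsub).trans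
      (Submodule.span_mono (Set.image_mono Set.subset_union_right))
  choose next hsub hnext using hstep
  let T : ℕ → {T : Set M // T.Countable} := fun n => Nat.rec ⟨T₀, hT₀⟩ (fun _ T => next T) n
  refine ⟨⋃ n, (T n).1, ⋃ n, idx (T n).1, Set.subset_iUnion (fun n => (T n).1) 0,
    Set.countable_iUnion fun n => (T n).2, ?_⟩
  rw [Submodule.baseChange_span, Set.image_iUnion, Submodule.span_iUnion]
  refine le_antisymm (iSup_le fun n => (hle _).trans ?_) (iSup₂_le fun i hi => ?_)
  · exact biSup_mono fun i hi => Set.mem_iUnion_of_mem n hi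
  · obtain ⟨n, hn⟩ := Set.mem_iUnion.1 hi
    exact (hnext (T n) i hn).trans
      (le_iSup (fun k => Submodule.span S (TensorProduct.mk R S M 1 '' (T k).1)) (n + 1))

/-- The quotient `N₂/N₁` of a step of an adapted devissage is projective. -/
theorem projective_step [Module.FaithfullyFlat R S] [Module.Projective S (S ⊗[R] M)]
    (N₁ N₂ : Submodule R M) (h12 : N₁ ≤ N₂) (D D' : Submodule S (S ⊗[R] M)) (hD : IsCompl D D')
    (hle : N₁.baseChange S ≤ D') (hsup : N₁.baseChange S ⊔ D = N₂.baseChange S)
    (hcg : CAlg.IsCountablyGenerated R (↥N₂ ⧸ N₁.comap N₂.subtype)) :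
    Module.Projective R (↥N₂ ⧸ N₁.comap N₂.subtype) := by
  let j := N₂.subtype.baseChange S
  have hj : Function.Injective j := by
    show Function.Injective (N₂.subtype.lTensor S)
    exact Module.Flat.lTensor_preserves_injective_linearMap _ N₂.injective_subtype
  let e : (S ⊗[R] N₂) ≃ₗ[S] N₂.baseChange S := LinearEquiv.ofInjective j hj
  let q := (N₁.comap N₂.subtype).mkQ.baseChange S
  let ι : D →ₗ[S] N₂.baseChange S := Submodule.inclusion (le_sup_right.trans hsup.le)
  let β : D →ₗ[S] S ⊗[R] (↥N₂ ⧸ N₁.comap N₂.subtype) := q ∘ₗ e.symm.toLinearMap ∘ₗ ι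
  have hincl : N₁ ≤ N₂ := h12
  have hq : ∀ w, q w = 0 ↔ j w ∈ N₁.baseChange S := by
    intro w
    have hex : Function.Exact (Submodule.inclusion hincl) (N₁.comap N₂.subtype).mkQ := by
      intro x
      rw [Submodule.mkQ_apply, Submodule.Quotient.mk_eq_zero]
      exact ⟨fun hx => ⟨⟨x.1, hx⟩, rfl⟩, by rintro ⟨y, rfl⟩; exact y.2⟩
    have hcomp : ∀ v, j ((Submodule.inclusion hincl).baseChange S v) = N₁.subtype.baseChange S v := by
      intro v
      rw [← LinearMap.comp_apply, ← LinearMap.baseChange_comp]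
      rfl
    show (N₁.comap N₂.subtype).mkQ.lTensor S w = 0 ↔ _
    rw [(lTensor_exact S hex (Submodule.mkQ_surjective _)) w]
    constructor
    · rintro ⟨v, rfl⟩
      exact ⟨v, (hcomp v).symm⟩
    · rintro ⟨v, hv⟩
      exact ⟨v, hj ((hcomp v).trans hv)⟩
  have hje : ∀ x, j (e.symm x) = x.1 := fun x => congrArg Subtype.val (e.apply_symm_apply x)
  have hβ : Function.Bijective β := by
    constructor
    · rw [injective_iff_map_eq_zero]
      intro d hd
      have h1 : j (e.symm (ι d)) ∈ N₁.baseChange S := (hq _).1 hd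
      rw [hje] at h1
      exact Subtype.ext ((Submodule.disjoint_def.1 hD.disjoint) _ d.2 (hle h1))
    · intro z
      obtain ⟨w, rfl⟩ := LinearMap.lTensor_surjective S (Submodule.mkQ_surjective (N₁.comap N₂.subtype)) z
      have hw : j w ∈ N₁.baseChange S ⊔ D := by rw [hsup]; exact ⟨w, rfl⟩
      obtain ⟨a, ha, d, hd, had⟩ := Submodule.mem_sup.1 hw
      refine ⟨⟨d, hd⟩, ?_⟩
      show q (e.symm (ι ⟨d, hd⟩)) = q w
      rw [← sub_eq_zero, ← map_sub, hq, map_sub, hje, ← had]
      show d - (a + d) ∈ _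
      rw [sub_add_eq_sub_sub_swap, sub_self, zero_sub]
      exact neg_mem ha
  haveI : Module.Projective S D := Module.Projective.of_split D.subtype
    (Submodule.linearProjOfIsCompl D D' hD) (LinearMap.ext fun x => Submodule.linearProjOfIsCompl_apply_left hD x)
  haveI := Module.Projective.of_equiv (LinearEquiv.ofBijective β hβ)
  haveI : Module.Flat R (S ⊗[R] (↥N₂ ⧸ N₁.comap N₂.subtype)) := Module.Flat.trans R S _
  haveI : Module.Flat R (↥N₂ ⧸ N₁.comap N₂.subtype) :=
    (FlatModB.flat_tensor_iff_of_faithfullyFlat R R S _).1 inferInstance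
  exact projective_of_flat_countable (isML_of_faithfullyFlat (S := S) isML_of_projective) hcg

theorem baseChange_iSup {ι : Sort*} (N : ι → Submodule R M) :
    (⨆ i, N i).baseChange S = ⨆ i, (N i).baseChange S := by
  simp only [Submodule.baseChange_eq_span, Submodule.map_iSup]
  refine le_antisymm ?_ (iSup_le fun i => Submodule.span_mono (le_iSup (fun i => (N i).map (TensorProduct.mk R S M 1)) i))
  rw [Submodule.span_le]
  refine (iSup_le fun i => ?_ : (⨆ i, (N i).map (TensorProduct.mk R S M 1)) ≤
    (⨆ i, Submodule.span S ((N i).map (TensorProduct.mk R S M 1) : Set (S ⊗[R] M))).restrictScalars R)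
  exact Submodule.subset_span.trans (le_iSup (fun i => Submodule.span S ((N i).map (TensorProduct.mk R S M 1) : Set (S ⊗[R] M))) i)

theorem baseChange_sSup (F : Set (Submodule R M)) :
    (sSup F).baseChange S = ⨆ C ∈ F, C.baseChange S := by
  rw [sSup_eq_iSup, baseChange_iSup]
  exact iSup_congr fun C => baseChange_iSup _

theorem sSupIndep_insert_of_disjoint {F : Set (Submodule R M)} (hF : sSupIndep F) {C : Submodule R M}
    (hC : Disjoint C (sSup F)) : sSupIndep (insert C F) := by
  intro a ha
  rcases Set.mem_insert_iff.1 ha with rfl | ha'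
  · exact hC.mono_right (sSup_le_sSup (by intro x hx; exact (Set.mem_insert_iff.1 hx.1).resolve_left hx.2))
  · have h1 : sSup (insert C F \ {a}) ≤ sSup (F \ {a}) ⊔ C := sSup_le fun x hx => by
      rcases Set.mem_insert_iff.1 hx.1 with rfl | hx'
      · exact le_sup_right
      · exact le_sup_of_le_left (le_sSup ⟨hx', hx.2⟩)
    refine Disjoint.mono_right h1 ((hF ha').disjoint_sup_right_of_disjoint_sup_left ?_)
    exact (hC.symm).mono_left (sup_le (le_sSup ha') (sSup_le_sSup Set.sdiff_subset))

theorem projective_of_adapted [Module.FaithfullyFlat R S] [Module.Projective S (S ⊗[R] M)]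
    {I : Type u} (Q : I → Submodule S (S ⊗[R] M)) (hind : iSupIndep Q) (htop : ⨆ i, Q i = ⊤)
    (hQc : ∀ i, ∃ t : Set (S ⊗[R] M), t.Countable ∧ Submodule.span S t = Q i) :
    Module.Projective R M := by
  classical
  let adm : Set (Set (Submodule R M)) := {F | sSupIndep F ∧ (∀ C ∈ F, Module.Projective R C) ∧
    ∃ I' : Set I, (sSup F).baseChange S = ⨆ i ∈ I', Q i}
  obtain ⟨F, hF⟩ := zorn_subset adm fun c hc hchain => by
    refine ⟨⋃₀ c, ⟨iSupIndep_sUnion_of_directed hchain.directedOn fun a ha => (hc ha).1,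
      fun C ⟨a, ha, hCa⟩ => (hc ha).2.1 C hCa, ?_⟩, fun a ha => Set.subset_sUnion_of_mem ha⟩
    choose J hJ using fun a : c => (hc a.2).2.2
    refine ⟨⋃ a, J a, ?_⟩
    rw [sSup_sUnion, iSup_subtype', baseChange_iSup, iSup_iUnion]
    exact iSup_congr hJ
  obtain ⟨hFind, hFproj, I', hI'⟩ := hF.prop
  have hall : sSup F = ⊤ := by
    by_contra hne
    obtain ⟨x, -, hx⟩ := SetLike.exists_of_lt (lt_top_iff_ne_top.2 hne)
    obtain ⟨T, I'', hxT, hTc, hT⟩ := exists_adapted Q htop hQc {x} (Set.countable_singleton x)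
    let N₁ := sSup F
    let N₂ := N₁ ⊔ Submodule.span R T
    let D := ⨆ i ∈ I'' \ I', Q i
    let D' := ⨆ i ∈ (I'' \ I')ᶜ, Q i
    have hD : IsCompl D D' := IsCompl.of_eq
      (hind.disjoint_biSup_biSup disjoint_compl_right).eq_bot
      (by
        rw [← htop]
        exact le_antisymm (sup_le (iSup₂_le fun i _ => le_iSup Q i) (iSup₂_le fun i _ => le_iSup Q i))
          (iSup_le fun i => (em (i ∈ I'' \ I')).elim (fun h => le_sup_of_le_left (le_biSup Q h))
            (fun h => le_sup_of_le_right (le_biSup Q (Set.mem_compl h)))))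
    have hN₂ : N₂.baseChange S = ⨆ i ∈ I' ∪ I'', Q i := by
      rw [iSup_union, ← hI', ← hT]
      show (N₁ ⊔ Submodule.span R T).baseChange S = _
      rw [sup_eq_iSup, baseChange_iSup, sup_eq_iSup]
      exact iSup_congr fun b => by cases b <;> rfl
    have hsup : N₁.baseChange S ⊔ D = N₂.baseChange S := by
      rw [hN₂, hI', ← iSup_union, Set.union_sdiff_self]
    have hcg : CAlg.IsCountablyGenerated R (↥N₂ ⧸ N₁.comap N₂.subtype) := by
      refine ⟨(fun m => Submodule.Quotient.mk m) '' (Subtype.val ⁻¹' T : Set N₂),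
        (hTc.preimage Subtype.val_injective).image _, eq_top_iff.2 ?_⟩
      rintro y -
      obtain ⟨⟨m, hm⟩, rfl⟩ := Submodule.Quotient.mk_surjective _ y
      obtain ⟨a, ha, b, hb, rfl⟩ := Submodule.mem_sup.1 hm
      rw [show (Submodule.Quotient.mk ⟨a + b, hm⟩ : ↥N₂ ⧸ N₁.comap N₂.subtype) =
        Submodule.Quotient.mk ⟨b, Submodule.mem_sup_right hb⟩ from (Submodule.Quotient.eq _).2 (by
          show a + b - b ∈ N₁
          rwa [add_sub_cancel_right])]
      have h0 : (⟨b, Submodule.mem_sup_right hb⟩ : N₂) ∈ Submodule.span R (Subtype.val ⁻¹' T : Set N₂) := by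
        have hmap : Submodule.map N₂.subtype (Submodule.span R (Subtype.val ⁻¹' T : Set N₂)) =
            Submodule.span R T := by
          rw [Submodule.map_span, Submodule.coe_subtype, Set.image_preimage_eq_of_subset]
          rw [Subtype.range_coe]
          exact fun z hz => Submodule.mem_sup_right (Submodule.subset_span hz)
        rw [← hmap] at hb
        obtain ⟨z, hz, hzb⟩ := hb
        have hzb' : (⟨b, Submodule.mem_sup_right (hmap ▸ ⟨z, hz, hzb⟩)⟩ : N₂) = z := Subtype.ext hzb.symm
        exact hzb' ▸ hz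
      have h1 := Submodule.mem_map_of_mem (f := (N₁.comap N₂.subtype).mkQ) h0
      rwa [Submodule.map_span] at h1
    haveI := projective_step N₁ N₂ le_sup_left D D' hD
      (hI'.le.trans (biSup_mono fun i hi h => h.2 hi)) hsup hcg
    obtain ⟨σ, hσ⟩ := Module.projective_lifting_property (N₁.comap N₂.subtype).mkQ LinearMap.id
      (Submodule.mkQ_surjective _)
    let g := N₂.subtype ∘ₗ σ
    let C := LinearMap.range g
    have hσ' : ∀ z, Submodule.Quotient.mk (σ z) = z := LinearMap.congr_fun hσ
    have hg : Function.Injective g := N₂.injective_subtype.comp fun a b h => by rw [← hσ' a, h, hσ' b]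
    have hCdisj : Disjoint C (sSup F) := Submodule.disjoint_def.2 <| by
      rintro _ ⟨z, rfl⟩ hz
      have : z = 0 := (hσ' z).symm.trans ((Submodule.Quotient.mk_eq_zero _).2 hz)
      rw [this, map_zero]
    have hCsup : C ⊔ sSup F = N₂ := by
      refine le_antisymm (sup_le (by rintro _ ⟨z, rfl⟩; exact (σ z).2) le_sup_left) fun m hm => ?_
      refine Submodule.mem_sup.2 ⟨g (Submodule.Quotient.mk ⟨m, hm⟩), ⟨_, rfl⟩,
        m - g (Submodule.Quotient.mk ⟨m, hm⟩), ?_, add_sub_cancel _ _⟩
      exact ((Submodule.Quotient.eq (N₁.comap N₂.subtype)).1 (hσ' (Submodule.Quotient.mk ⟨m, hm⟩)).symm :)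
    have hmem : insert C F ∈ adm := by
      refine ⟨sSupIndep_insert_of_disjoint hFind hCdisj, fun C' hC' => ?_, I' ∪ I'', ?_⟩
      · rcases Set.mem_insert_iff.1 hC' with rfl | h
        · exact Module.Projective.of_equiv (LinearEquiv.ofInjective g hg)
        · exact hFproj C' h
      · rw [sSup_insert, hCsup, hN₂]
    have hCF : C ∈ F := hF.le_of_ge hmem (Set.subset_insert C F) (Set.mem_insert C F)
    apply hx
    have hxN : x ∈ C ⊔ sSup F := by
      rw [hCsup]
      exact Submodule.mem_sup_right (Submodule.subset_span (hxT rfl))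
    exact (sup_le (le_sSup hCF) le_rfl : C ⊔ sSup F ≤ sSup F) hxN
  have hint : DirectSum.IsInternal (fun C : F => (C : Submodule R M)) :=
    DirectSum.isInternal_submodule_of_iSupIndep_of_iSup_eq_top ((sSupIndep_iff F).1 hFind)
      ((sSup_eq_iSup' F).symm.trans hall)
  haveI : ∀ C : F, Module.Projective R (C : Submodule R M) := fun C => hFproj C C.2
  haveI : Module.Projective R (DirectSum F fun C => (C : Submodule R M)) :=
    inferInstanceAs (Module.Projective R (Π₀ C : F, (C : Submodule R M)))
  exact Module.Projective.of_equiv (LinearEquiv.ofBijective (DirectSum.coeLinearMap _) hint)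

end Groth.Agent.MLMod
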