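import Groth.Agent.MLMod.Flat

/-!
# Countably generated Mittag-Leffler modules
-/

set_option autoImplicit false

universe u

open TensorProduct

namespace Groth.Agent.MLMod

variable {R : Type u} [CommRing R] {M : Type u} [AddCommGroup M] [Module R M]

/-- A chain of finitely presented modules computing `M`, each map of which dominates the map to
`M`. -/
structure Chain (R : Type u) [CommRing R] (M : Type u) [AddCommGroup M] [Module R M] where
  P : ℕ → ModuleCat.{u} R
  fp : ∀ n, Module.FinitePresentation R (P n)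
  o : ∀ n, P n →ₗ[R] M
  u : ∀ n, P n →ₗ[R] P (n + 1)
  comp : ∀ n, (o (n + 1)).comp (u n) = o n
  dom : ∀ n (Z : Type u) [AddCommGroup Z] [Module R Z] (x : P n ⊗[R] Z),
    (o n).rTensor Z x = 0 → (u n).rTensor Z x = 0
  exh : ∀ m : M, ∃ n, m ∈ LinearMap.range (o n)

theorem exists_step (hM : CAlg.IsMittagLeffler R M) {Q : Type u} [AddCommGroup Q] [Module R Q]
    [Module.Finite R Q] (o : Q →ₗ[R] M) (m : M) :
    ∃ (Q' : Type u) (_ : AddCommGroup Q') (_ : Module R Q') (_ : Module.FinitePresentation R Q')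
      (o' : Q' →ₗ[R] M) (v : Q →ₗ[R] Q'), o'.comp v = o ∧ m ∈ LinearMap.range o' ∧
      ∀ (Z : Type u) [AddCommGroup Z] [Module R Z] (x : Q ⊗[R] Z),
        o.rTensor Z x = 0 → v.rTensor Z x = 0 := by
  classical
  obtain ⟨a, w, hw⟩ := Module.Finite.exists_fin (R := R) (M := Q)
  let p : (Fin a → R) →ₗ[R] Q := Fintype.linearCombination R w
  have hp : Function.Surjective p := by
    rw [← LinearMap.range_eq_top, Fintype.range_linearCombination, hw]
  let f : (Fin (a + 1) → R) →ₗ[R] M := Fintype.linearCombination R (Fin.snoc (fun i => o (w i)) m)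
  let incl : (Fin a → R) →ₗ[R] (Fin (a + 1) → R) :=
    Fintype.linearCombination R fun i => Pi.single i.castSucc 1
  have hfi : f.comp incl = o.comp p := by
    apply LinearMap.pi_ext'
    intro i
    apply LinearMap.ext_ring
    simp [f, incl, p, Fintype.linearCombination_apply_single]
  obtain ⟨Q', i1, i2, i3, g, c, hfc, hd⟩ := exists_dominated hM f
  have hker : LinearMap.ker p ≤ LinearMap.ker (g.comp incl) := by
    intro z hz
    have h0 : f.rTensor R (incl z ⊗ₜ 1) = 0 := by
      rw [LinearMap.rTensor_tmul, ← LinearMap.comp_apply, hfi, LinearMap.comp_apply,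
        LinearMap.mem_ker.1 hz, map_zero, TensorProduct.zero_tmul]
    simpa using congrArg (TensorProduct.rid R Q') (hd R _ h0)
  let v : Q →ₗ[R] Q' :=
    (LinearMap.ker p).liftQ (g.comp incl) hker ∘ₗ (p.quotKerEquivOfSurjective hp).symm.toLinearMap
  have hv : v.comp p = g.comp incl := by
    apply LinearMap.ext
    intro z
    simp only [v, LinearMap.comp_apply, LinearEquiv.coe_coe]
    rw [show (p.quotKerEquivOfSurjective hp).symm (p z) = Submodule.Quotient.mk z from
      (LinearEquiv.symm_apply_eq _).2 (by rfl)]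
    rfl
  refine ⟨Q', i1, i2, i3, c, v, ?_, ⟨g (Pi.single (Fin.last a) 1), ?_⟩, fun Z _ _ x hx => ?_⟩
  · apply LinearMap.ext
    intro q
    obtain ⟨z, rfl⟩ := hp q
    rw [LinearMap.comp_apply, ← LinearMap.comp_apply v, hv, ← LinearMap.comp_apply c,
      ← LinearMap.comp_assoc, ← hfc, hfi, LinearMap.comp_apply]
  · rw [← LinearMap.comp_apply, ← hfc]
    simp [f, Fintype.linearCombination_apply_single]
  · obtain ⟨y, rfl⟩ := LinearMap.rTensor_surjective Z hp x
    rw [← LinearMap.rTensor_comp_apply] at hx ⊢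
    rw [← hfi, LinearMap.rTensor_comp_apply] at hx
    rw [hv, LinearMap.rTensor_comp_apply]
    exact hd Z _ hx

theorem exists_chain (hM : CAlg.IsMittagLeffler R M) (hc : CAlg.IsCountablyGenerated R M) :
    Nonempty (Chain R M) := by
  classical
  obtain ⟨s, hs, hspan⟩ := hc
  obtain ⟨m, hm⟩ := (hs.insert (0 : M)).exists_eq_range ⟨0, Set.mem_insert _ _⟩
  let St := Σ' (Q : ModuleCat.{u} R) (_ : Q →ₗ[R] M), Module.FinitePresentation R Q
  have step : ∀ (s : St) (n : ℕ), ∃ (t : St) (v : s.1 →ₗ[R] t.1), t.2.1.comp v = s.2.1 ∧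
      m n ∈ LinearMap.range t.2.1 ∧ ∀ (Z : Type u) [AddCommGroup Z] [Module R Z] (x : s.1 ⊗[R] Z),
        s.2.1.rTensor Z x = 0 → v.rTensor Z x = 0 := by
    intro s n
    haveI := s.2.2
    obtain ⟨Q', i1, i2, i3, o', v, h1, h2, h3⟩ := exists_step hM s.2.1 (m n)
    exact ⟨⟨ModuleCat.of R Q', o', i3⟩, v, h1, h2, h3⟩
  choose t v h1 h2 h3 using step
  let st : ℕ → St := fun n => Nat.rec ⟨ModuleCat.of R PUnit.{u+1}, 0, inferInstance⟩ (fun k s => t s k) n
  have hmono : ∀ a b, a ≤ b → LinearMap.range (st a).2.1 ≤ LinearMap.range (st b).2.1 := by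
    intro a b hab
    induction hab with
    | refl => exact le_rfl
    | @step b _ ih =>
      refine ih.trans ?_
      rintro _ ⟨x, rfl⟩
      exact ⟨v (st b) b x, LinearMap.congr_fun (h1 (st b) b) x⟩
  refine ⟨⟨fun n => (st n).1, fun n => (st n).2.2, fun n => (st n).2.1, fun n => v (st n) n,
    fun n => h1 _ _, fun n => h3 _ _, fun x => ?_⟩⟩
  have hx : x ∈ Submodule.span R (Set.range m) := by
    rw [← hm]
    exact (Submodule.span_mono (Set.subset_insert 0 s)) (hspan.ge trivial)
  induction hx using Submodule.span_induction with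
  | mem x hx =>
    obtain ⟨n, rfl⟩ := hx
    exact ⟨n + 1, h2 (st n) n⟩
  | zero => exact ⟨0, zero_mem _⟩
  | add a b _ _ ha hb =>
    obtain ⟨p, hp⟩ := ha
    obtain ⟨q, hq⟩ := hb
    exact ⟨max p q, add_mem (hmono p _ (le_max_left _ _) hp) (hmono q _ (le_max_right _ _) hq)⟩
  | smul c a _ ha =>
    obtain ⟨p, hp⟩ := ha
    exact ⟨p, Submodule.smul_mem _ c hp⟩

namespace Chain

variable (C : Chain R M)

/-- Drop the first terms. -/
def shift (k : ℕ) : Chain R M where
  P n := C.P (k + n)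
  fp n := C.fp (k + n)
  o n := C.o (k + n)
  u n := C.u (k + n)
  comp n := C.comp (k + n)
  dom n := C.dom (k + n)
  exh m := by
    obtain ⟨n, hn⟩ := C.exh m
    suffices ∀ j, m ∈ LinearMap.range (C.o (n + j)) from ⟨n, by rw [Nat.add_comm k n]; exact this k⟩
    intro j
    induction j with
    | zero => exact hn
    | succ j ih =>
      obtain ⟨x, rfl⟩ := ih
      exact ⟨C.u _ x, LinearMap.congr_fun (C.comp _) x⟩

theorem exists_glue {Y : Type u} [AddCommGroup Y] [Module R Y] (φ : ∀ n, C.P n →ₗ[R] Y)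
    (hφ : ∀ n, (φ (n + 1)).comp (C.u n) = φ n) :
    ∃ l : M →ₗ[R] Y, ∀ n, l.comp (C.o n) = φ n := by
  have push : ∀ a b, a ≤ b → ∀ x : C.P a, ∃ y : C.P b, C.o b y = C.o a x ∧ φ b y = φ a x := by
    intro a b hab
    induction hab with
    | refl => exact fun x => ⟨x, rfl, rfl⟩
    | @step b _ ih =>
      intro x
      obtain ⟨y, hy1, hy2⟩ := ih x
      exact ⟨C.u b y, (LinearMap.congr_fun (C.comp b) y).trans hy1,
        (LinearMap.congr_fun (hφ b) y).trans hy2⟩
  have uniq : ∀ a b (x : C.P a) (y : C.P b), C.o a x = C.o b y → φ a x = φ b y := by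
    intro a b x y hxy
    obtain ⟨x', hx1, hx2⟩ := push a _ (le_max_left a b) x
    obtain ⟨y', hy1, hy2⟩ := push b _ (le_max_right a b) y
    rw [← hx2, ← hy2, ← sub_eq_zero, ← map_sub]
    have h0 : (C.o _).rTensor R ((x' - y') ⊗ₜ 1) = 0 := by
      rw [LinearMap.rTensor_tmul, map_sub, hx1, hy1, hxy, sub_self, TensorProduct.zero_tmul]
    have h1 : C.u _ (x' - y') = 0 := by
      simpa using congrArg (TensorProduct.rid R _) (C.dom _ R _ h0)
    rw [← LinearMap.congr_fun (hφ _), LinearMap.comp_apply, h1, map_zero]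
  choose N x hx using C.exh
  refine ⟨{ toFun := fun m => φ (N m) (x m), map_add' := fun m m' => ?_, map_smul' := fun c m => ?_ },
    fun n => LinearMap.ext fun y => uniq _ _ _ _ (hx _)⟩
  · obtain ⟨a, ha1, ha2⟩ := push (N m) _ (le_max_left (N m) (N m')) (x m)
    obtain ⟨b, hb1, hb2⟩ := push (N m') _ (le_max_right (N m) (N m')) (x m')
    rw [← ha2, ← hb2, ← map_add]
    exact uniq _ _ _ _ (by rw [hx, map_add, ha1, hb1, hx, hx])
  · rw [RingHom.id_apply, ← map_smul]
    exact uniq _ _ _ _ (by rw [hx, map_smul, hx])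

theorem exists_retraction (n : ℕ) :
    ∃ h : C.P (n + 1 + 1) →ₗ[R] C.P (n + 1), h.comp ((C.u (n + 1)).comp (C.u n)) = C.u n := by
  haveI := C.fp n
  haveI := C.fp (n + 1 + 1)
  haveI : Module.FinitePresentation R
      (C.P (n + 1 + 1) ⧸ LinearMap.range ((C.u (n + 1)).comp (C.u n))) :=
    Module.finitePresentation_of_surjective (LinearMap.range ((C.u (n + 1)).comp (C.u n))).mkQ
      (Submodule.mkQ_surjective _) (by
        rw [Submodule.ker_mkQ, LinearMap.range_eq_map]
        exact (Module.finite_def.mp inferInstance).map _)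
  obtain ⟨h, hh⟩ := exists_factor ((C.u (n + 1)).comp (C.u n)) (C.u n) fun Z _ _ x hx => C.dom n Z x (by
    rw [← C.comp n, ← C.comp (n + 1), LinearMap.comp_assoc, LinearMap.rTensor_comp_apply, hx, map_zero])
  exact ⟨h, hh.symm⟩

end Chain

theorem exists_endo (hM : CAlg.IsMittagLeffler R M) (hc : CAlg.IsCountablyGenerated R M)
    {P : Type u} [AddCommGroup P] [Module R P] [Module.Finite R P] (f : P →ₗ[R] M) :
    ∃ (Q : Type u) (_ : AddCommGroup Q) (_ : Module R Q) (_ : Module.FinitePresentation R Q)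
      (b : M →ₗ[R] Q) (c : Q →ₗ[R] M), (c ∘ₗ b) ∘ₗ f = f := by
  classical
  obtain ⟨C₀⟩ := exists_chain hM hc
  obtain ⟨s, hs⟩ := Module.Finite.fg_top (R := R) (M := P)
  choose N hN using fun p : P => C₀.exh (f p)
  let k := s.sup N
  let C := C₀.shift k
  have hrange : LinearMap.range f ≤ LinearMap.range (C.o 0) := by
    rw [LinearMap.range_eq_map, ← hs, Submodule.map_span, Submodule.span_le]
    rintro _ ⟨p, hp, rfl⟩
    show f p ∈ LinearMap.range (C₀.o k)
    have hle : N p ≤ k := Finset.le_sup hp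
    obtain ⟨j, hj⟩ := Nat.exists_eq_add_of_le hle
    rw [hj]
    clear hj hle
    induction j with
    | zero => exact hN p
    | succ j ih =>
      obtain ⟨x, hx⟩ := ih
      exact ⟨C₀.u _ x, (LinearMap.congr_fun (C₀.comp _) x).trans hx⟩
  choose h hh using C.exists_retraction
  let b : ∀ n, C.P (n + 1) →ₗ[R] C.P 1 := fun n => Nat.rec LinearMap.id (fun j bj => bj.comp (h j)) n
  obtain ⟨l, hl⟩ := C.exists_glue (fun n => (b n).comp (C.u n)) fun n => by
    show (((b n).comp (h n)).comp (C.u (n + 1))).comp (C.u n) = _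
    rw [LinearMap.comp_assoc, LinearMap.comp_assoc, hh]
  refine ⟨C.P 1, inferInstance, inferInstance, C.fp 1, l, C.o 1, ?_⟩
  apply LinearMap.ext
  intro p
  obtain ⟨x, hx⟩ := hrange ⟨p, rfl⟩
  rw [LinearMap.comp_apply, LinearMap.comp_apply, ← hx, ← LinearMap.comp_apply l, hl 0]
  exact LinearMap.congr_fun (C.comp 0) x

theorem projective_of_flat_countable [Module.Flat R M] (hM : CAlg.IsMittagLeffler R M)
    (hc : CAlg.IsCountablyGenerated R M) : Module.Projective R M := by
  classical
  obtain ⟨C⟩ := exists_chain hM hc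
  refine Module.Projective.of_lifting_property'' fun q hq => ?_
  have hlift : ∀ n, ∃ t : C.P n →ₗ[R] (M →₀ R), q.comp t = C.o n := fun n => by
    haveI := C.fp n
    obtain ⟨k, a, y, hy⟩ := Module.Flat.exists_factorization_of_finitePresentation (C.o n)
    obtain ⟨y', hy'⟩ := Module.projective_lifting_property q y hq
    exact ⟨y'.comp a, by rw [← LinearMap.comp_assoc, hy', ← hy]⟩
  choose t ht using hlift
  choose h hh using C.exists_retraction
  let b : ∀ n, C.P (n + 1) →ₗ[R] (M →₀ R) :=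
    fun n => Nat.rec (t 1) (fun j bj => t (j + 1 + 1) + (bj - (t (j + 1 + 1)).comp (C.u (j + 1))).comp (h j)) n
  have hqb : ∀ n, q.comp (b n) = C.o (n + 1) := by
    intro n
    induction n with
    | zero => exact ht 1
    | succ n ih =>
      show q.comp (t (n + 1 + 1) + (b n - (t (n + 1 + 1)).comp (C.u (n + 1))).comp (h n)) = _
      rw [LinearMap.comp_add, ht, ← LinearMap.comp_assoc, LinearMap.comp_sub, ih, ← LinearMap.comp_assoc,
        ht, C.comp, sub_self, LinearMap.zero_comp, add_zero]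
  obtain ⟨l, hl⟩ := C.exists_glue (fun n => (b n).comp (C.u n)) fun n => by
    show ((t (n + 1 + 1) + (b n - (t (n + 1 + 1)).comp (C.u (n + 1))).comp (h n)).comp (C.u (n + 1))).comp (C.u n) = _
    rw [LinearMap.comp_assoc, LinearMap.add_comp, LinearMap.comp_assoc, hh, LinearMap.sub_comp,
      LinearMap.comp_assoc]
    abel
  refine ⟨l, LinearMap.ext fun m => ?_⟩
  obtain ⟨n, x, rfl⟩ := C.exh m
  rw [LinearMap.comp_apply, ← LinearMap.comp_apply l, hl, ← LinearMap.comp_apply, ← LinearMap.comp_assoc,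
    hqb, C.comp]
  rfl

end Groth.Agent.MLMod
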