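import Groth.Agent.MLMod.Pure

/-!
# Completions of free modules
-/

set_option autoImplicit false

universe u

open TensorProduct

namespace Groth.Agent.MLMod

variable {R : Type u} [CommRing R] (I : Ideal R) (α : Type u)

/-- The coordinates of an element of the completion of a free module. -/
noncomputable def toPi : AdicCompletion I (α →₀ R) →ₗ[R] (α → AdicCompletion I R) :=
  LinearMap.pi fun a : α => AdicCompletion.map I (Finsupp.lapply a : (α →₀ R) →ₗ[R] R)

theorem mem_pow_smul_top_iff (k : ℕ) (z : α →₀ R) :
    z ∈ (I ^ k • ⊤ : Submodule R (α →₀ R)) ↔ ∀ a, z a ∈ I ^ k := by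
  constructor
  · intro hz a
    induction hz using Submodule.smul_induction_on' with
    | smul r hr n _ => rw [Finsupp.smul_apply, smul_eq_mul]; exact Ideal.mul_mem_right _ _ hr
    | add x _ y _ hx hy => rw [Finsupp.add_apply]; exact add_mem hx hy
  · intro h
    rw [← z.sum_single]
    refine Submodule.sum_mem _ fun a _ => ?_
    rw [← Finsupp.smul_single_one]
    exact Submodule.smul_mem_smul (h a) trivial

theorem mem_smul_top_ring (k : ℕ) (r : R) : r ∈ (I ^ k • ⊤ : Submodule R R) ↔ r ∈ I ^ k := by
  rw [Ideal.smul_eq_mul, Ideal.mul_top]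

theorem toPi_val (x : AdicCompletion I (α →₀ R)) (a : α) (k : ℕ) (z : α →₀ R)
    (hz : Submodule.Quotient.mk z = x.val k) :
    (toPi I α x a).val k = Submodule.Quotient.mk (z a) := by
  show (AdicCompletion.map I (Finsupp.lapply a) x).val k = _
  rw [AdicCompletion.map_val_apply, ← hz]
  rfl

theorem toPi_injective : Function.Injective (toPi I α) := by
  rw [injective_iff_map_eq_zero]
  intro x hx
  apply AdicCompletion.ext
  intro k
  obtain ⟨z, hz⟩ := Submodule.Quotient.mk_surjective _ (x.val k)
  rw [← hz]
  refine (Submodule.Quotient.mk_eq_zero _).2 ((mem_pow_smul_top_iff I α k z).2 fun a => ?_)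
  have h := toPi_val I α x a k z hz
  rw [hx] at h
  exact (mem_smul_top_ring I k _).1 ((Submodule.Quotient.mk_eq_zero _).1 h.symm)

theorem mem_range_toPi_iff (y : α → AdicCompletion I R) :
    y ∈ LinearMap.range (toPi I α) ↔ ∀ k, {a | (y a).val k ≠ 0}.Finite := by
  classical
  constructor
  · rintro ⟨x, rfl⟩ k
    obtain ⟨z, hz⟩ := Submodule.Quotient.mk_surjective _ (x.val k)
    refine z.support.finite_toSet.subset fun a ha => ?_
    rw [Finset.mem_coe, Finsupp.mem_support_iff]
    intro h0
    apply ha
    rw [toPi_val I α x a k z hz, h0]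
    rfl
  · intro h
    choose r hr using fun a k => Submodule.Quotient.mk_surjective _ ((y a).val k)
    let z : ℕ → (α →₀ R) := fun k => ∑ a ∈ (h k).toFinset, Finsupp.single a (r a k)
    have hz : ∀ k a, Submodule.Quotient.mk (p := (I ^ k • ⊤ : Submodule R R)) (z k a) = (y a).val k := by
      intro k a
      simp only [z, Finset.sum_apply', Finsupp.single_apply]
      rw [Finset.sum_ite_eq' (h k).toFinset a (fun a => r a k)]
      split
      · exact hr a k
      · rename_i ha
        rw [Set.Finite.mem_toFinset] at ha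
        simp only [Set.mem_setOf_eq, not_not] at ha
        rw [ha]
        rfl
    refine ⟨⟨fun k => Submodule.Quotient.mk (z k), fun {m n} hmn => ?_⟩, funext fun a =>
      AdicCompletion.ext fun k => (toPi_val I α _ a k (z k) rfl).trans (hz k a)⟩
    refine (Submodule.Quotient.eq _).2 ((mem_pow_smul_top_iff I α m _).2 fun a => ?_)
    rw [Finsupp.sub_apply, ← mem_smul_top_ring I m, ← Submodule.Quotient.eq, hz m a, ← (y a).2 hmn, ← hz n a]
    rfl

/-- Artin–Rees for completions: small values of a linear map have small preimages. -/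
theorem exists_small_preimage [IsNoetherianRing R] {m n : ℕ} (A : Fin m → Fin n → R) :
    ∃ c : ℕ, ∀ k ≥ c, ∀ x : Fin n → AdicCompletion I R,
      (∀ i, (∑ l, A i l • x l).val k = 0) →
        ∃ x' : Fin n → AdicCompletion I R, (∀ i, ∑ l, A i l • x' l = ∑ l, A i l • x l) ∧
          ∀ l, (x' l).val (k - c) = 0 := by
  classical
  let f : (Fin n → R) →ₗ[R] (Fin m → R) := Fintype.linearCombination R fun l i => A i l
  obtain ⟨c, hc⟩ := Ideal.exists_pow_inf_eq_pow_smul I (LinearMap.range f)
  refine ⟨c, fun k hk x hx => ?_⟩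
  choose t ht using fun l => Submodule.Quotient.mk_surjective _ ((x l).val k)
  have hft : f t ∈ (I ^ k • ⊤ : Submodule R (Fin m → R)) ⊓ LinearMap.range f := by
    refine ⟨?_, t, rfl⟩
    rw [show f t = ∑ i, f t i • (Pi.single i 1 : Fin m → R) by ext i; simp [Pi.single_apply]]
    refine Submodule.sum_mem _ fun i _ => Submodule.smul_mem_smul ?_ trivial
    refine (mem_smul_top_ring I k _).1 ((Submodule.Quotient.mk_eq_zero _).1 ?_)
    rw [← hx i]
    simp only [f, Fintype.linearCombination_apply, Finset.sum_apply, Pi.smul_apply]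
    rw [show (∑ l, A i l • x l).val k = ∑ l, A i l • (x l).val k by
      simp [← AdicCompletion.eval_apply, map_sum]]
    simp only [← ht, ← Submodule.Quotient.mk_smul, ← Submodule.mkQ_apply, map_sum]
    exact Finset.sum_congr rfl fun l _ => congrArg _ (mul_comm _ _)
  rw [hc k hk] at hft
  have hmem : f t ∈ Submodule.map f (I ^ (k - c) • ⊤) := by
    rw [Submodule.map_smul'', Submodule.map_top]
    exact Submodule.smul_mono le_rfl inf_le_right hft
  obtain ⟨s, hs, hst⟩ := hmem
  refine ⟨fun l => x l - AdicCompletion.of I R (t l - s l), fun i => ?_, fun l => ?_⟩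
  · have h0 : ∑ l, A i l • (t l - s l) = 0 := by
      have := congrFun (show f (t - s) = 0 by rw [map_sub, hst, sub_self]) i
      simpa [f, Fintype.linearCombination_apply, mul_comm] using this
    have h1 : ∑ l, A i l • AdicCompletion.of I R (t l - s l) = 0 := by
      rw [show ∑ l, A i l • AdicCompletion.of I R (t l - s l) =
        AdicCompletion.of I R (∑ l, A i l • (t l - s l)) by
          rw [map_sum]; exact Finset.sum_congr rfl fun l _ => (map_smul _ _ _).symm, h0, map_zero]
    rw [show (∑ l, A i l • (x l - AdicCompletion.of I R (t l - s l))) =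
      ∑ l, A i l • x l - ∑ l, A i l • AdicCompletion.of I R (t l - s l) by
        rw [← Finset.sum_sub_distrib]; exact Finset.sum_congr rfl fun l _ => smul_sub _ _ _, h1, sub_zero]
  · have hsl : s l ∈ I ^ (k - c) := by
      clear hst hft
      induction hs using Submodule.smul_induction_on' with
      | smul r hr n _ => exact Ideal.mul_mem_right _ _ hr
      | add x _ y _ hx hy => exact add_mem hx hy
    rw [AdicCompletion.val_sub_apply, AdicCompletion.of_apply, ← (x l).2 (Nat.sub_le k c), ← ht]
    refine (Submodule.Quotient.eq _).2 ((mem_smul_top_ring I _ _).2 ?_)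
    simpa using hsl

theorem universallyInjective_toPi [IsNoetherianRing R] :
    CAlgX.UniversallyInjective R (toPi I α) := by
  classical
  refine universallyInjective_of_solvable _ fun m n A c x h => ?_
  obtain ⟨e, he⟩ := exists_small_preimage I A
  have key : ∀ a : α, ∃ x' : Fin n → AdicCompletion I R,
      (∀ i, ∑ l, A i l • x' l = toPi I α (c i) a) ∧
        ∀ j, (∀ i, (toPi I α (c i) a).val (j + e) = 0) → ∀ l, (x' l).val j = 0 := by
    intro a
    have hxa : ∀ i, ∑ l, A i l • x l a = toPi I α (c i) a := fun i => by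
      rw [h i]; simp [Finset.sum_apply]
    by_cases h0 : ∀ i, toPi I α (c i) a = 0
    · exact ⟨0, fun i => by simp [h0], fun j _ l => rfl⟩
    push Not at h0
    obtain ⟨i₀, hi₀⟩ := h0
    obtain ⟨k₀, hk₀⟩ : ∃ k, (toPi I α (c i₀) a).val k ≠ 0 := by
      by_contra hh
      push Not at hh
      exact hi₀ (AdicCompletion.ext fun k => hh k)
    have hdown : ∀ {p q : ℕ}, p ≤ q → ∀ y : AdicCompletion I R, y.val q = 0 → y.val p = 0 :=
      fun hpq y hy => by rw [← y.2 hpq, hy, map_zero]
    -- the largest level where all coordinates vanish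
    let P : ℕ → Prop := fun k => ∃ i, (toPi I α (c i) a).val k ≠ 0
    have hP : ∃ k, P k := ⟨k₀, i₀, hk₀⟩
    let K := Nat.find hP
    obtain ⟨iK, hiK⟩ : P K := Nat.find_spec hP
    by_cases hKe : K ≤ e
    · refine ⟨fun l => x l a, hxa, fun j hj l => ?_⟩
      exact absurd (hdown (hKe.trans (Nat.le_add_left e j)) _ (hj iK)) hiK
    have hsmall : ∀ i, (toPi I α (c i) a).val (K - 1) = 0 := fun i => by
      by_contra hh
      exact Nat.find_min hP (show K - 1 < K by omega) ⟨i, hh⟩
    obtain ⟨x', hx', hx'0⟩ := he (K - 1) (by omega) (fun l => x l a) (fun i => by rw [hxa]; exact hsmall i)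
    refine ⟨x', fun i => (hx' i).trans (hxa i), fun j hj l => ?_⟩
    by_cases hj' : j + e < K
    · exact hdown (by omega) _ (hx'0 l)
    · exact absurd (hdown (by omega) _ (hj iK)) hiK
  choose x' hx' hfin using key
  have hr : ∀ l, (fun a => x' a l) ∈ LinearMap.range (toPi I α) := fun l => by
    rw [mem_range_toPi_iff]
    intro j
    have hS : (⋃ i, {a | (toPi I α (c i) a).val (j + e) ≠ 0}).Finite :=
      Set.finite_iUnion fun i => (mem_range_toPi_iff I α _).1 ⟨c i, rfl⟩ (j + e)
    refine hS.subset fun a ha => ?_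
    by_contra hh
    simp only [Set.mem_iUnion, Set.mem_setOf_eq, not_exists, not_not] at hh
    exact ha (hfin a j hh l)
  choose w hw using hr
  refine ⟨w, fun i => toPi_injective I α ?_⟩
  simp only [map_sum, map_smul, hw]
  funext a
  rw [← hx' a i]
  simp [Finset.sum_apply]

end Groth.Agent.MLMod
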