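import Groth.Agent.LocalCrit.Fibre
import Mathlib.LinearAlgebra.DirectSum.Finsupp

/-!
Flatness modulo powers of an ideal.
-/

set_option autoImplicit false
universe u
open TensorProduct

namespace Groth.Agent.MLMod

variable {R : Type u} [CommRing R]

/-- Tensoring with `M` preserves injections between modules killed by `I`. -/
def InjKilled (I : Ideal R) (M : Type u) [AddCommGroup M] [Module R M] : Prop :=
  ∀ ⦃X Y : Type u⦄ [AddCommGroup X] [Module R X] [AddCommGroup Y] [Module R Y] (g : X →ₗ[R] Y),
    Function.Injective g → (∀ a ∈ I, ∀ y : Y, a • y = 0) → Function.Injective (g.rTensor M)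

variable (M : Type u) [AddCommGroup M] [Module R M]

theorem injKilled_of_flat (I : Ideal R) [Module.Flat (R ⧸ I) ((R ⧸ I) ⊗[R] M)] : InjKilled I M := by
  intro X Y _ _ _ _ g hg hY
  have hX : ∀ a ∈ I, ∀ x : X, a • x = 0 := fun a ha x => hg (by rw [map_smul, hY a ha, map_zero])
  have hTX : Module.IsTorsionBySet R X (I : Set R) := fun v a => hX a a.2 v
  have hTY : Module.IsTorsionBySet R Y (I : Set R) := fun v a => hY a a.2 v
  letI : Module (R ⧸ I) X := hTX.module
  haveI : IsScalarTower R (R ⧸ I) X := hTX.isScalarTower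
  letI : Module (R ⧸ I) Y := hTY.module
  haveI : IsScalarTower R (R ⧸ I) Y := hTY.isScalarTower
  let gS : X →ₗ[R ⧸ I] Y := LinearMap.extendScalarsOfSurjective Ideal.Quotient.mk_surjective g
  have hk : Function.Injective (gS.rTensor ((R ⧸ I) ⊗[R] M)) :=
    Module.Flat.rTensor_preserves_injective_linearMap gS hg
  let eX := AlgebraTensorModule.cancelBaseChange R (R ⧸ I) (R ⧸ I) X M
  let eY := AlgebraTensorModule.cancelBaseChange R (R ⧸ I) (R ⧸ I) Y M
  have hc : ∀ z, g.rTensor M (eX z) = eY (gS.rTensor _ z) := by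
    intro z
    induction z using TensorProduct.induction_on with
    | zero => simp
    | tmul v w =>
      induction w using TensorProduct.induction_on with
      | zero => simp
      | tmul c n =>
        simp only [eX, eY, AlgebraTensorModule.cancelBaseChange_tmul, LinearMap.rTensor_tmul]
        exact congrArg (· ⊗ₜ[R] n) (gS.map_smul c v)
      | add x y hx hy => simp only [tmul_add, map_add, hx, hy]
    | add x y hx hy => simp only [map_add, hx, hy]
  intro a b hab
  obtain ⟨a, rfl⟩ := eX.surjective a
  obtain ⟨b, rfl⟩ := eX.surjective b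
  rw [hc, hc] at hab
  rw [hk (eY.injective hab)]

theorem flat_of_injKilled (I : Ideal R) (h : InjKilled I M) :
    Module.Flat (R ⧸ I) ((R ⧸ I) ⊗[R] M) := by
  rw [Module.Flat.iff_rTensor_preserves_injective_linearMap]
  intro X Y _ _ _ _ gS hg
  letI : Module R X := Module.compHom X (Ideal.Quotient.mk I)
  haveI : IsScalarTower R (R ⧸ I) X := IsScalarTower.of_algebraMap_smul fun _ _ => rfl
  letI : Module R Y := Module.compHom Y (Ideal.Quotient.mk I)
  haveI : IsScalarTower R (R ⧸ I) Y := IsScalarTower.of_algebraMap_smul fun _ _ => rfl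
  have hk := h (gS.restrictScalars R) hg fun a ha y => by
    rw [← algebraMap_smul (R ⧸ I) a y, Ideal.Quotient.algebraMap_eq, Ideal.Quotient.eq_zero_iff_mem.2 ha,
      zero_smul]
  let eX := AlgebraTensorModule.cancelBaseChange R (R ⧸ I) (R ⧸ I) X M
  let eY := AlgebraTensorModule.cancelBaseChange R (R ⧸ I) (R ⧸ I) Y M
  have hc : ∀ z, (gS.restrictScalars R).rTensor M (eX z) = eY (gS.rTensor _ z) := by
    intro z
    induction z using TensorProduct.induction_on with
    | zero => simp
    | tmul v w =>
      induction w using TensorProduct.induction_on with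
      | zero => simp
      | tmul c n =>
        simp only [eX, eY, AlgebraTensorModule.cancelBaseChange_tmul, LinearMap.rTensor_tmul]
        exact congrArg (· ⊗ₜ[R] n) (gS.map_smul c v)
      | add x y hx hy => simp only [tmul_add, map_add, hx, hy]
    | add x y hx hy => simp only [map_add, hx, hy]
  intro a b hab
  refine eX.injective (hk ?_)
  rw [hc, hc, hab]

/-- A two step filtration: injectivity on the sub and on the quotient gives injectivity. -/
theorem injective_rTensor_of_filtration {X Y : Type u} [AddCommGroup X] [Module R X] [AddCommGroup Y]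
    [Module R Y] (g : X →ₗ[R] Y) (E : Submodule R Y)
    (hsub : Function.Injective ((g ∘ₗ (E.comap g).subtype).rTensor M))
    (hquot : Function.Injective (((E.comap g).mapQ E g le_rfl).rTensor M)) :
    Function.Injective (g.rTensor M) := by
  rw [injective_iff_map_eq_zero]
  intro z hz
  have h1 : (E.comap g).mkQ.rTensor M z = 0 := by
    refine (injective_iff_map_eq_zero _).1 hquot _ ?_
    rw [← LinearMap.rTensor_comp_apply, Submodule.mapQ_mkQ, LinearMap.rTensor_comp_apply, hz, map_zero]
  obtain ⟨e, rfl⟩ := ((rTensor_exact M (LinearMap.exact_subtype_mkQ (E.comap g))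
    (Submodule.mkQ_surjective _)) z).1 h1
  have h2 : e = 0 := (injective_iff_map_eq_zero _).1 hsub e (by rw [LinearMap.rTensor_comp_apply, hz])
  rw [h2, map_zero]

theorem injective_rTensor_subtype_range {X Y : Type u} [AddCommGroup X] [Module R X] [AddCommGroup Y]
    [Module R Y] (f : X →ₗ[R] Y) (h : Function.Injective (f.rTensor M)) :
    Function.Injective ((LinearMap.range f).subtype.rTensor M) := by
  intro a b hab
  obtain ⟨a, rfl⟩ := LinearMap.rTensor_surjective M f.surjective_rangeRestrict a
  obtain ⟨b, rfl⟩ := LinearMap.rTensor_surjective M f.surjective_rangeRestrict b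
  rw [← LinearMap.rTensor_comp_apply, ← LinearMap.rTensor_comp_apply] at hab
  rw [h hab]

variable {M}

/-- `I (R/J)` as an `R`-submodule of `R/J`. -/
abbrev idealBar (I J : Ideal R) : Submodule R (R ⧸ J) :=
  Submodule.map (Algebra.linearMap R (R ⧸ J)) I

theorem injective_subtype_of_le {I : Ideal R} (hI : InjKilled I M) {F : Type u} [AddCommGroup F]
    [Module R F] (E F' : Submodule R F) (hEF' : E ≤ F') (hleE : I • ⊤ ≤ E)
    (hE : Function.Injective (E.subtype.rTensor M)) : Function.Injective (F'.subtype.rTensor M) := by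
  refine injective_rTensor_of_filtration M F'.subtype E ?_ (hI _ ?_ ?_)
  · let e := Submodule.comapSubtypeEquivOfLe hEF'
    have hcomp : F'.subtype ∘ₗ (E.comap F'.subtype).subtype = E.subtype ∘ₗ e.toLinearMap := by
      ext x; rfl
    rw [hcomp, LinearMap.rTensor_comp, LinearMap.coe_comp]
    exact hE.comp (LinearEquiv.rTensor M e).injective
  · rw [injective_iff_map_eq_zero]
    intro x hx
    obtain ⟨x, rfl⟩ := Submodule.Quotient.mk_surjective _ x
    rw [Submodule.mapQ_apply, Submodule.Quotient.mk_eq_zero] at hx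
    rwa [Submodule.Quotient.mk_eq_zero, Submodule.mem_comap]
  · intro a ha y
    obtain ⟨y, rfl⟩ := Submodule.Quotient.mk_surjective _ y
    rw [← Submodule.Quotient.mk_smul, Submodule.Quotient.mk_eq_zero]
    exact hleE (Submodule.smul_mem_smul ha trivial)

variable (M) in
theorem injective_subtype_of_cover {F Y : Type u} [AddCommGroup F] [Module R F] [AddCommGroup Y]
    [Module R Y] (π : F →ₗ[R] Y) (hπ : Function.Surjective π) (W : Submodule R Y)
    (hF' : Function.Injective ((W.comap π).subtype.rTensor M)) : Function.Injective (W.subtype.rTensor M) := by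
  let F' := W.comap π
  let p : F' →ₗ[R] W := (π ∘ₗ F'.subtype).codRestrict W fun x => x.2
  have hp : Function.Surjective p := fun w => by
    obtain ⟨v, hv⟩ := hπ w.1
    exact ⟨⟨v, show π v ∈ W by rw [hv]; exact w.2⟩, Subtype.ext hv⟩
  rw [injective_iff_map_eq_zero]
  intro z hz
  obtain ⟨v, rfl⟩ := LinearMap.rTensor_surjective M hp z
  have h1 : π.rTensor M (F'.subtype.rTensor M v) = 0 := by
    rw [← LinearMap.rTensor_comp_apply]
    rw [← LinearMap.rTensor_comp_apply] at hz
    exact hz
  obtain ⟨k, hk⟩ := ((rTensor_exact M (f := (LinearMap.ker π).subtype) (g := π) (LinearMap.exact_subtype_ker_map π) hπ) _).1 h1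
  have hKF : LinearMap.ker π ≤ F' := fun x hx => show π x ∈ W by rw [LinearMap.mem_ker.1 hx]; exact W.zero_mem
  have h2 : v = (Submodule.inclusion hKF).rTensor M k := hF' (by
    rw [← hk, ← LinearMap.rTensor_comp_apply, Submodule.subtype_comp_inclusion])
  rw [h2, ← LinearMap.rTensor_comp_apply, show p ∘ₗ Submodule.inclusion hKF = 0 from
    LinearMap.ext fun x => Subtype.ext x.2, LinearMap.rTensor_zero, LinearMap.zero_apply]

theorem injective_subtype_of_free {I : Ideal R} (hI : InjKilled I M) {A F Y : Type u} [AddCommGroup A]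
    [Module R A] [AddCommGroup F] [Module R F] [AddCommGroup Y] [Module R Y] (ι : A →ₗ[R] F)
    (hι : Function.Injective (ι.rTensor M)) (hle : LinearMap.range ι ≤ I • ⊤)
    (hge : I • ⊤ ≤ LinearMap.range ι) (π : F →ₗ[R] Y) (hπ : Function.Surjective π) (W : Submodule R Y)
    (hW : I • ⊤ ≤ W) : Function.Injective (W.subtype.rTensor M) := by
  refine injective_subtype_of_cover M π hπ W
    (injective_subtype_of_le hI (LinearMap.range ι) (W.comap π) ?_ hge (injective_rTensor_subtype_range M ι hι))
  refine hle.trans (le_trans ?_ (Submodule.comap_mono hW))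
  rw [← Submodule.map_le_iff_le_comap, Submodule.map_smul'']
  exact Submodule.smul_mono le_rfl le_top

theorem injective_subtype_of_step {I J : Ideal R} (hI : InjKilled I M)
    (hbar : Function.Injective ((idealBar I J).subtype.rTensor M))
    {Y : Type u} [AddCommGroup Y] [Module R Y] (hY : ∀ a ∈ J, ∀ y : Y, a • y = 0) (W : Submodule R Y)
    (hW : I • ⊤ ≤ W) : Function.Injective (W.subtype.rTensor M) := by
  classical
  let π : (Y →₀ R ⧸ J) →ₗ[R] Y := Finsupp.lsum R fun y => Submodule.liftQ J (LinearMap.toSpanSingleton R Y y)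
    fun a ha => hY a ha y
  have hπ : Function.Surjective π := fun y => ⟨Finsupp.single y (Ideal.Quotient.mk J 1), by
    rw [Finsupp.lsum_single]
    exact (one_smul R y)⟩
  let ι : (Y →₀ idealBar I J) →ₗ[R] (Y →₀ R ⧸ J) := Finsupp.mapRange.linearMap (idealBar I J).subtype
  have hι : Function.Injective (ι.rTensor M) := by
    intro a b hab
    apply (TensorProduct.finsuppLeft R R (idealBar I J) M Y).injective
    have hnat : ∀ z i, (idealBar I J).subtype.rTensor M (TensorProduct.finsuppLeft R R (idealBar I J) M Y z i) =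
        TensorProduct.finsuppLeft R R (R ⧸ J) M Y (ι.rTensor M z) i := by
      intro z i
      induction z using TensorProduct.induction_on with
      | zero => simp
      | tmul v m => simp [ι, TensorProduct.finsuppLeft_apply_tmul_apply]
      | add x y hx hy => simp only [map_add, Finsupp.add_apply, hx, hy]
    ext i
    exact hbar (by rw [hnat, hnat, hab])
  let E := LinearMap.range ι
  have hEle : E ≤ I • ⊤ := by
    rintro _ ⟨v, rfl⟩
    show ι v ∈ I • (⊤ : Submodule R (Y →₀ R ⧸ J))
    induction v using Finsupp.induction_linear with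
    | zero => simp
    | add x y hx hy => rw [map_add]; exact add_mem hx hy
    | single y c =>
      obtain ⟨c, a, ha, rfl⟩ := c
      rw [Finsupp.mapRange.linearMap_apply, Finsupp.mapRange_single]
      show Finsupp.single y (algebraMap R (R ⧸ J) a) ∈ _
      rw [show Finsupp.single y (algebraMap R (R ⧸ J) a) = a • Finsupp.single y (1 : R ⧸ J) by
          rw [Finsupp.smul_single, Algebra.smul_def, mul_one]]
      exact Submodule.smul_mem_smul ha trivial
  have hleE : I • ⊤ ≤ E := Submodule.smul_le.2 fun a ha v hv => by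
    clear hv
    induction v using Finsupp.induction_linear with
    | zero => simp
    | add x y hx hy => rw [smul_add]; exact add_mem hx hy
    | single y c =>
      obtain ⟨c, rfl⟩ := Ideal.Quotient.mk_surjective c
      refine ⟨Finsupp.single y ⟨algebraMap R (R ⧸ J) (a * c), a * c, Ideal.mul_mem_right _ _ ha, rfl⟩, ?_⟩
      rw [Finsupp.mapRange.linearMap_apply, Finsupp.mapRange_single, Finsupp.smul_single]
      congr 1
  exact injective_subtype_of_free (A := Y →₀ idealBar I J) (F := Y →₀ R ⧸ J) hI ι hι hEle hleE π hπ W hW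

theorem injKilled_of_step {I J : Ideal R} (hI : InjKilled I M) (n : ℕ) (hn : I ^ n ≤ J)
    (hbar : Function.Injective ((idealBar I J).subtype.rTensor M)) : InjKilled J M := by
  suffices h : ∀ k, ∀ {X Y : Type u} [AddCommGroup X] [Module R X] [AddCommGroup Y] [Module R Y]
      (g : X →ₗ[R] Y), Function.Injective g → (∀ a ∈ J, ∀ y : Y, a • y = 0) →
      (I ^ k • ⊤ : Submodule R Y) = ⊥ → Function.Injective (g.rTensor M) by
    intro X Y _ _ _ _ g hg hY
    refine h n g hg hY (le_bot_iff.1 (Submodule.smul_le.2 fun a ha y _ => ?_))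
    rw [Submodule.mem_bot, hY a (hn ha)]
  intro k
  induction k with
  | zero =>
    intro X Y _ _ _ _ g hg _ hbot
    rw [pow_zero, Ideal.one_eq_top, Submodule.top_smul] at hbot
    haveI : Subsingleton X := subsingleton_of_forall_eq 0 fun x => hg (by
      rw [map_zero]
      exact (Submodule.mem_bot R).1 (hbot ▸ Submodule.mem_top))
    exact Function.injective_of_subsingleton _
  | succ k ih =>
    intro X Y _ _ _ _ g hg hY hbot
    refine injective_rTensor_of_filtration M g (I • ⊤) ?_ (hI _ ?_ ?_)
    · let gA : ↥((I • ⊤ : Submodule R Y).comap g) →ₗ[R] ↥(I • ⊤ : Submodule R Y) :=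
        (g ∘ₗ ((I • ⊤ : Submodule R Y).comap g).subtype).codRestrict _ fun x => x.2
      have h0 := injective_subtype_of_step hI hbar hY (I • ⊤) le_rfl
      have h1 : Function.Injective (gA.rTensor M) := by
        refine ih gA (fun a b hab => Subtype.ext (hg (congrArg Subtype.val hab))) (fun a ha y => Subtype.ext (hY a ha y)) ?_
        apply Submodule.map_injective_of_injective (I • ⊤ : Submodule R Y).injective_subtype
        rw [Submodule.map_smul'', Submodule.map_top, Submodule.range_subtype, Submodule.map_bot,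
          ← Submodule.mul_smul, ← pow_succ, hbot]
      rw [show g ∘ₗ ((I • ⊤ : Submodule R Y).comap g).subtype = (I • ⊤ : Submodule R Y).subtype ∘ₗ gA from rfl,
        LinearMap.rTensor_comp, LinearMap.coe_comp]
      exact h0.comp h1
    · rw [injective_iff_map_eq_zero]
      intro x hx
      obtain ⟨x, rfl⟩ := Submodule.Quotient.mk_surjective _ x
      rw [Submodule.mapQ_apply, Submodule.Quotient.mk_eq_zero] at hx
      rwa [Submodule.Quotient.mk_eq_zero, Submodule.mem_comap]
    · intro a ha y
      obtain ⟨y, rfl⟩ := Submodule.Quotient.mk_surjective _ y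
      rw [← Submodule.Quotient.mk_smul, Submodule.Quotient.mk_eq_zero]
      exact Submodule.smul_mem_smul ha trivial

theorem injective_idealBar_pow (I : Ideal R) (h : Function.Injective ((Submodule.subtype I).rTensor M))
    (n : ℕ) (hn : n ≠ 0) : Function.Injective ((idealBar I (I ^ n)).subtype.rTensor M) := by
  let p : I →ₗ[R] idealBar I (I ^ n) :=
    ((Algebra.linearMap R (R ⧸ I ^ n)) ∘ₗ Submodule.subtype I).codRestrict _ fun x => ⟨x.1, x.2, rfl⟩
  have hp : Function.Surjective p := fun ⟨_, a, ha, rfl⟩ => ⟨⟨a, ha⟩, rfl⟩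
  rw [injective_iff_map_eq_zero]
  intro z hz
  obtain ⟨v, rfl⟩ := LinearMap.rTensor_surjective M hp z
  have hle : I ^ n ≤ I := Ideal.pow_le_self hn
  have h1 : (Algebra.linearMap R (R ⧸ I ^ n)).rTensor M ((Submodule.subtype I).rTensor M v) = 0 := by
    rw [← LinearMap.rTensor_comp_apply]
    rw [← LinearMap.rTensor_comp_apply] at hz
    exact hz
  obtain ⟨w, hw⟩ := ((rTensor_exact M (f := Submodule.subtype (I ^ n)) (g := Algebra.linearMap R (R ⧸ I ^ n))
    (LinearMap.exact_subtype_mkQ (I ^ n)) Ideal.Quotient.mk_surjective) _).1 h1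
  have h2 : v = (Submodule.inclusion hle).rTensor M w := h (by
    rw [← hw, ← LinearMap.rTensor_comp_apply, Submodule.subtype_comp_inclusion])
  rw [h2, ← LinearMap.rTensor_comp_apply, show p ∘ₗ Submodule.inclusion hle = 0 from
    LinearMap.ext fun x => Subtype.ext (Ideal.Quotient.eq_zero_iff_mem.2 x.2), LinearMap.rTensor_zero,
    LinearMap.zero_apply]

variable (M)

theorem flat_quotient_pow (I : Ideal R) [Module.Flat (R ⧸ I) ((R ⧸ I) ⊗[R] M)]
    (h : Function.Injective ((Submodule.subtype I).rTensor M)) (n : ℕ) (hn : n ≠ 0) :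
    Module.Flat (R ⧸ I ^ n) ((R ⧸ I ^ n) ⊗[R] M) :=
  flat_of_injKilled M _ (injKilled_of_step (injKilled_of_flat M I) n le_rfl (injective_idealBar_pow I h n hn))

theorem flat_of_injKilled_bot (h : InjKilled (⊥ : Ideal R) M) : Module.Flat R M := by
  rw [Module.Flat.iff_rTensor_preserves_injective_linearMap]
  intro X Y _ _ _ _ g hg
  exact h g hg fun a ha y => by rw [(Submodule.mem_bot R).1 ha, zero_smul]

theorem flat_of_nilpotent (I : Ideal R) (hI : IsNilpotent I) [Module.Flat (R ⧸ I) ((R ⧸ I) ⊗[R] M)]
    (h : Function.Injective ((Submodule.subtype I).rTensor M)) : Module.Flat R M := by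
  obtain ⟨n, hn⟩ := hI
  have h2 : InjKilled (I ^ (n + 1)) M :=
    injKilled_of_step (injKilled_of_flat M I) (n + 1) le_rfl (injective_idealBar_pow I h (n + 1) n.succ_ne_zero)
  refine flat_of_injKilled_bot M ?_
  rwa [pow_succ, hn, zero_mul, Ideal.zero_eq_bot] at h2

end Groth.Agent.MLMod

namespace Groth.Agent.MLMod

variable {R : Type u} [CommRing R] (R' : Type u) [CommRing R'] [Algebra R R'] (I : Ideal R)
  (M : Type u) [AddCommGroup M] [Module R M]

theorem injKilled_comap_sq {I : Ideal R} (hI : InjKilled I M) [Module.Flat R' (R' ⊗[R] M)] :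
    InjKilled (((I ^ 2).map (algebraMap R R')).comap (algebraMap R R')) M := by
  let J := ((I ^ 2).map (algebraMap R R')).comap (algebraMap R R')
  let K : Ideal R' := (I ^ 2).map (algebraMap R R')
  have hJ : I ^ 2 ≤ J := Ideal.le_comap_map
  refine injKilled_of_step (M := M) hI 2 hJ ?_
  let j : (R ⧸ J) →ₗ[R] (R' ⧸ K) :=
    Submodule.liftQ J (Algebra.linearMap R (R' ⧸ K)) fun a ha => by
      rw [LinearMap.mem_ker, Algebra.linearMap_apply, IsScalarTower.algebraMap_apply R R' (R' ⧸ K),
        Ideal.Quotient.algebraMap_eq, Ideal.Quotient.eq_zero_iff_mem]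
      exact ha
  have hj : Function.Injective j := by
    rw [injective_iff_map_eq_zero]
    intro x hx
    obtain ⟨x, rfl⟩ := Ideal.Quotient.mk_surjective x
    rw [Ideal.Quotient.eq_zero_iff_mem]
    have : algebraMap R (R' ⧸ K) x = 0 := hx
    rw [IsScalarTower.algebraMap_apply R R' (R' ⧸ K), Ideal.Quotient.algebraMap_eq,
      Ideal.Quotient.eq_zero_iff_mem] at this
    exact this
  let W : Submodule R' (R' ⧸ K) := (I.map (algebraMap R R')) • ⊤
  have hW : ∀ x : idealBar I J, j x.1 ∈ W := by
    rintro ⟨_, a, ha, rfl⟩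
    show algebraMap R (R' ⧸ K) a ∈ W
    rw [IsScalarTower.algebraMap_apply R R' (R' ⧸ K), ← mul_one (algebraMap R' (R' ⧸ K) _), ← Algebra.smul_def]
    exact Submodule.smul_mem_smul (Ideal.mem_map_of_mem _ ha) trivial
  let jW : idealBar I J →ₗ[R] W := (j ∘ₗ (idealBar I J).subtype).codRestrict (W.restrictScalars R) hW
  have h1 : Function.Injective (jW.rTensor M) := by
    refine hI jW (fun a b hab => Subtype.ext (hj (congrArg Subtype.val hab))) fun a ha y => Subtype.ext ?_
    obtain ⟨y, hy⟩ := y
    show a • y = 0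
    rw [← algebraMap_smul R' a y]
    change y ∈ W at hy
    induction hy using Submodule.smul_induction_on' with
    | smul b hb x _ =>
      obtain ⟨x, rfl⟩ := Ideal.Quotient.mk_surjective x
      rw [smul_smul, Algebra.smul_def, Ideal.Quotient.algebraMap_eq, ← map_mul, Ideal.Quotient.eq_zero_iff_mem]
      refine Ideal.mul_mem_right _ _ ?_
      show algebraMap R R' a * b ∈ (I ^ 2).map (algebraMap R R')
      rw [Ideal.map_pow, pow_two]
      exact Ideal.mul_mem_mul (Ideal.mem_map_of_mem _ ha) hb
    | add x _ y _ hx hy => rw [smul_add, hx, hy, add_zero]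
  have h2 : Function.Injective ((W.subtype.restrictScalars R).rTensor M) := by
    have hk : Function.Injective (W.subtype.rTensor (R' ⊗[R] M)) :=
      Module.Flat.rTensor_preserves_injective_linearMap W.subtype W.injective_subtype
    let eX := AlgebraTensorModule.cancelBaseChange R R' R' W M
    let eY := AlgebraTensorModule.cancelBaseChange R R' R' (R' ⧸ K) M
    have hc : ∀ z, (W.subtype.restrictScalars R).rTensor M (eX z) = eY (W.subtype.rTensor _ z) := by
      intro z
      induction z using TensorProduct.induction_on with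
      | zero => exact (map_zero _).trans (by simp)
      | tmul v w =>
        induction w using TensorProduct.induction_on with
        | zero => simp
        | tmul c n =>
          simp only [eX, eY, AlgebraTensorModule.cancelBaseChange_tmul, LinearMap.rTensor_tmul]
          rfl
        | add x y hx hy => simp only [tmul_add, map_add, hx, hy]
      | add x y hx hy => simp only [map_add, hx, hy]
    intro a b hab
    obtain ⟨a, rfl⟩ := eX.surjective a
    obtain ⟨b, rfl⟩ := eX.surjective b
    erw [hc, hc] at hab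
    rw [hk (eY.injective hab)]
  intro a b hab
  apply h1
  apply h2
  have h3 := congrArg (j.rTensor M) hab
  rw [← LinearMap.rTensor_comp_apply, ← LinearMap.rTensor_comp_apply] at h3
  rw [← LinearMap.rTensor_comp_apply, ← LinearMap.rTensor_comp_apply]
  exact h3

theorem flat_comap_sq [Module.Flat (R ⧸ I) ((R ⧸ I) ⊗[R] M)] [Module.Flat R' (R' ⊗[R] M)] :
    Module.Flat (R ⧸ ((I ^ 2).map (algebraMap R R')).comap (algebraMap R R'))
      ((R ⧸ ((I ^ 2).map (algebraMap R R')).comap (algebraMap R R')) ⊗[R] M) :=
  flat_of_injKilled M _ (injKilled_comap_sq R' M (injKilled_of_flat M I))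

theorem flat_of_nilpotent_of_injective (hinj : Function.Injective (algebraMap R R')) (hI : IsNilpotent I)
    [Module.Flat (R ⧸ I) ((R ⧸ I) ⊗[R] M)] [Module.Flat R' (R' ⊗[R] M)] : Module.Flat R M := by
  obtain ⟨n, hn⟩ := hI
  have key : ∀ k : ℕ, ∃ J : Ideal R, J.map (algebraMap R R') ≤ (I.map (algebraMap R R')) ^ (2 ^ k) ∧
      InjKilled J M := by
    intro k
    induction k with
    | zero => exact ⟨I, by simp, injKilled_of_flat M I⟩
    | succ k ih =>
      obtain ⟨J, hJ, hInj⟩ := ih
      refine ⟨((J ^ 2).map (algebraMap R R')).comap (algebraMap R R'), ?_, injKilled_comap_sq R' M hInj⟩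
      refine Ideal.map_comap_le.trans ?_
      rw [Ideal.map_pow, pow_succ 2 k, pow_mul]
      exact Ideal.pow_right_mono hJ 2
  obtain ⟨J, hJ, hInj⟩ := key n
  have hJ0 : J = ⊥ := by
    rw [← le_bot_iff]
    intro x hx
    have h0 : algebraMap R R' x ∈ (I.map (algebraMap R R')) ^ (2 ^ n) := hJ (Ideal.mem_map_of_mem _ hx)
    have h1 : (I.map (algebraMap R R')) ^ (2 ^ n) = ⊥ := by
      rw [← Ideal.map_pow, pow_eq_zero_of_le (Nat.lt_two_pow_self).le hn, Ideal.zero_eq_bot, Ideal.map_bot]
    rw [h1, Submodule.mem_bot] at h0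
    exact (Submodule.mem_bot R).2 (hinj (h0.trans (map_zero _).symm))
  exact flat_of_injKilled_bot M (hJ0 ▸ hInj)

end Groth.Agent.MLMod
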