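import Groth.Agent.MLMod.LiftFlat
import Mathlib.LinearAlgebra.DirectSum.Finsupp

/-!
Projectivity modulo two ideals with trivial intersection.
-/

set_option autoImplicit false
universe u
open TensorProduct

namespace Groth.Agent.MLMod

variable {R : Type u} [CommRing R] (I J : Ideal R) {P : Type u} [AddCommGroup P] [Module R P]

theorem mul_injective_finsupp_quotient (hIJ : I ⊓ J = ⊥) {α : Type u} (w : I ⊗[R] (α →₀ R ⧸ J))
    (hw : LocalCrit.mulMap I (α →₀ R ⧸ J) w = 0) : w = 0 := by
  classical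
  apply (TensorProduct.finsuppRight R R I (R ⧸ J) α).injective
  rw [map_zero]
  ext a
  rw [Finsupp.zero_apply]
  have hnat : ∀ w, LocalCrit.mulMap I (R ⧸ J) (TensorProduct.finsuppRight R R I (R ⧸ J) α w a) =
      LocalCrit.mulMap I (α →₀ R ⧸ J) w a := by
    intro w
    induction w using TensorProduct.induction_on with
    | zero => simp
    | tmul i v => simp [LocalCrit.mulMap, TensorProduct.finsuppRight_apply_tmul_apply]
    | add x y hx hy => simp only [map_add, Finsupp.add_apply, hx, hy]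
  have h0 := hnat w
  rw [hw, Finsupp.zero_apply] at h0
  have hgen : ∀ z : I ⊗[R] (R ⧸ J), ∃ i : I, z = i ⊗ₜ[R] (Ideal.Quotient.mk J 1) := by
    intro z
    induction z using TensorProduct.induction_on with
    | zero => exact ⟨0, (zero_tmul _ _).symm⟩
    | tmul i v =>
      obtain ⟨r, rfl⟩ := Ideal.Quotient.mk_surjective v
      exact ⟨r • i, by rw [smul_tmul, Algebra.smul_def, Ideal.Quotient.algebraMap_eq, ← map_mul, mul_one]⟩
    | add x y hx hy =>
      obtain ⟨i, rfl⟩ := hx
      obtain ⟨k, rfl⟩ := hy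
      exact ⟨i + k, (add_tmul _ _ _).symm⟩
  obtain ⟨i, hi⟩ := hgen (TensorProduct.finsuppRight R R I (R ⧸ J) α w a)
  rw [hi] at h0 ⊢
  have h1 : (i : R) ∈ J := by
    rw [← Ideal.Quotient.eq_zero_iff_mem]
    simpa [LocalCrit.mulMap, Algebra.smul_def] using h0
  have h2 : i = 0 := Subtype.ext (by simpa [hIJ] using (Submodule.mem_inf.2 ⟨i.2, h1⟩ : (i : R) ∈ I ⊓ J))
  rw [h2, zero_tmul]

theorem mulMap_natural {Y Z : Type u} [AddCommGroup Y] [Module R Y] [AddCommGroup Z] [Module R Z]
    (A : Ideal R) (g : Y →ₗ[R] Z) (w : A ⊗[R] Y) :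
    LocalCrit.mulMap A Z (g.lTensor A w) = g (LocalCrit.mulMap A Y w) := by
  induction w using TensorProduct.induction_on with
  | zero => simp
  | tmul i y => simp [LocalCrit.mulMap]
  | add x y hx hy => simp only [map_add, hx, hy]

theorem mulMap_injective_of_inf_eq_bot (hIJ : I ⊓ J = ⊥)
    [Module.Projective (R ⧸ J) (P ⧸ (J • ⊤ : Submodule R P))] : Function.Injective (LocalCrit.mulMap I P) := by
  classical
  rw [injective_iff_map_eq_zero]
  intro z hz
  let Pb := P ⧸ (J • ⊤ : Submodule R P)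
  obtain ⟨σ, hσ⟩ := Module.projective_def'.1 (inferInstance : Module.Projective (R ⧸ J) Pb)
  let σR : Pb →ₗ[R] (Pb →₀ R ⧸ J) := σ.restrictScalars R
  let q : P →ₗ[R] Pb := Submodule.mkQ _
  have h1 : LocalCrit.mulMap I (Pb →₀ R ⧸ J) ((σR ∘ₗ q).lTensor I z) = 0 := by
    rw [mulMap_natural, hz, map_zero]
  have h2 := mul_injective_finsupp_quotient I J hIJ _ h1
  have h3 : q.lTensor I z = 0 := by
    let πR : (Pb →₀ R ⧸ J) →ₗ[R] Pb := (Finsupp.linearCombination (R ⧸ J) (id : Pb → Pb)).restrictScalars R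
    have hid : πR ∘ₗ (σR ∘ₗ q) = q := LinearMap.ext fun p => LinearMap.congr_fun hσ (q p)
    rw [← hid, LinearMap.lTensor_comp_apply, h2, map_zero]
  obtain ⟨w, rfl⟩ := ((lTensor_exact I (LinearMap.exact_subtype_mkQ (J • ⊤ : Submodule R P))
    (Submodule.mkQ_surjective _)) z).1 h3
  have h4 : ∀ w : I ⊗[R] (J • ⊤ : Submodule R P), (J • ⊤ : Submodule R P).subtype.lTensor I w = 0 := by
    intro w
    induction w using TensorProduct.induction_on with
    | zero => exact map_zero _
    | tmul i y =>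
      obtain ⟨y, hy⟩ := y
      rw [LinearMap.lTensor_tmul]
      show i ⊗ₜ[R] y = 0
      induction hy using Submodule.smul_induction_on' with
      | smul b hb p _ =>
        rw [tmul_smul, smul_tmul', show b • i = 0 from Subtype.ext ?_, zero_tmul]
        show b * (i : R) = 0
        rw [← Submodule.mem_bot R, ← hIJ]
        exact ⟨Ideal.mul_mem_left _ _ i.2, Ideal.mul_mem_right _ _ hb⟩
      | add x _ y _ hx hy => rw [tmul_add, hx, hy, add_zero]
    | add x y hx hy => rw [map_add, hx, hy, add_zero]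
  exact h4 w

theorem projective_of_inf_eq_bot (hIJ : I ⊓ J = ⊥)
    [Module.Projective (R ⧸ I) (P ⧸ (I • ⊤ : Submodule R P))]
    [Module.Projective (R ⧸ J) (P ⧸ (J • ⊤ : Submodule R P))] : Module.Projective R P := by
  let π : (P →₀ R) →ₗ[R] P := Finsupp.linearCombination R (id : P → P)
  have hπ : Function.Surjective π := fun m =>
    ⟨Finsupp.single m 1, (Finsupp.linearCombination_single R (1 : R) m).trans (one_smul R m)⟩
  let W : Submodule R (P →₀ R) := I • LinearMap.ker π
  let g : ((P →₀ R) ⧸ W) →ₗ[R] P := W.liftQ π Submodule.smul_le_right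
  have hg : Function.Surjective g := fun y => by
    obtain ⟨x, rfl⟩ := hπ y
    exact ⟨Submodule.Quotient.mk x, rfl⟩
  have hkg : I • LinearMap.ker g = ⊥ := by
    rw [show LinearMap.ker g = (LinearMap.ker π).map W.mkQ from Submodule.ker_liftQ _ _ _,
      ← Submodule.map_smul'', ← LinearMap.le_ker_iff_map, Submodule.ker_mkQ]
  obtain ⟨s₁, hs₁⟩ := exists_section_of_mulMap_injective I (mulMap_injective_of_inf_eq_bot I J hIJ) g hg hkg
  have hkW : J • LinearMap.ker W.mkQ = ⊥ := by
    rw [Submodule.ker_mkQ, ← Submodule.mul_smul, show J * I = ⊥ from le_bot_iff.1 ?_, Submodule.bot_smul]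
    rw [← hIJ, inf_comm]
    exact Ideal.mul_le_inf
  obtain ⟨s, hs⟩ := exists_lift_of_mulMap_injective J
    (mulMap_injective_of_inf_eq_bot J I (by rw [inf_comm, hIJ])) W.mkQ W.mkQ_surjective hkW s₁
  exact Module.Projective.of_split s π (LinearMap.ext fun p => by
    show π (s p) = p
    exact (congrArg g (hs p)).trans (hs₁ p))

end Groth.Agent.MLMod
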