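import Groth.Agent.LocalCrit.Artinian
import Mathlib.RingTheory.Ideal.Quotient.Basic
import Mathlib.LinearAlgebra.TensorProduct.Quotient

/-!
Lifting projectivity and finite projective modules along nilpotent ideals.
-/

universe u
open TensorProduct

namespace Groth.Agent.MLMod

variable {R : Type u} [CommRing R]

theorem map_mem_smul_top {P M : Type u} [AddCommMonoid P] [Module R P] [AddCommMonoid M] [Module R M]
    (J : Ideal R) (f : P →ₗ[R] M) :
    (J • ⊤ : Submodule R P) ≤ (J • ⊤ : Submodule R M).comap f := by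
  rw [← Submodule.map_le_iff_le_comap, Submodule.map_smul'']
  exact Submodule.smul_mono le_rfl le_top

theorem range_eq_top_of_sup_nilpotent {M : Type u} [AddCommGroup M]
    [Module R M] (J : Ideal R) (n : ℕ) (hn : J ^ n = 0) (N : Submodule R M)
    (h : ⊤ ≤ N ⊔ J • (⊤ : Submodule R M)) : N = ⊤ := by
  have h1 : ∀ k, (⊤ : Submodule R M) ≤ N ⊔ J ^ k • ⊤ := by
    intro k
    induction k with
    | zero => simp
    | succ k ih =>
      refine ih.trans (sup_le le_sup_left ?_)
      refine (Submodule.smul_mono le_rfl h).trans ?_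
      rw [Submodule.smul_sup, ← Submodule.mul_smul, ← pow_succ]
      exact sup_le_sup_right Submodule.smul_le_right _
  have h2 := h1 n
  rw [hn, Ideal.zero_eq_bot, Submodule.bot_smul, sup_bot_eq] at h2
  exact top_le_iff.1 h2

theorem exists_section_mapQ (J : Ideal R) {F M : Type u} [AddCommGroup F] [Module R F] [AddCommGroup M]
    [Module R M] [Module.Projective (R ⧸ J) (M ⧸ (J • ⊤ : Submodule R M))] (π : F →ₗ[R] M)
    (hπ : Function.Surjective π) :
    ∃ sb : (M ⧸ (J • ⊤ : Submodule R M)) →ₗ[R] (F ⧸ (J • ⊤ : Submodule R F)),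
      ∀ y, Submodule.mapQ _ _ π (map_mem_smul_top J π) (sb y) = y := by
  let πS := LinearMap.extendScalarsOfSurjective (R := R) (S := R ⧸ J) Ideal.Quotient.mk_surjective
    (Submodule.mapQ (J • ⊤ : Submodule R F) (J • ⊤ : Submodule R M) π (map_mem_smul_top J π))
  have hπS : Function.Surjective πS := by
    intro y
    obtain ⟨y, rfl⟩ := Submodule.Quotient.mk_surjective _ y
    obtain ⟨x, rfl⟩ := hπ y
    exact ⟨Submodule.Quotient.mk x, rfl⟩
  obtain ⟨s', hs'⟩ := Module.projective_lifting_property πS LinearMap.id hπS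
  exact ⟨s'.restrictScalars R, fun y => LinearMap.congr_fun hs' y⟩

theorem injective_of_ker_le (J : Ideal R) (n : ℕ) (hn : J ^ n = 0) {P M : Type u} [AddCommGroup P]
    [Module R P] [AddCommGroup M] [Module R M] [Module.Flat R M] (f : P →ₗ[R] M)
    (hf : Function.Surjective f) (hker : LinearMap.ker f ≤ J • ⊤) : Function.Injective f :=
  LinearMap.ker_eq_bot.1
    (LocalCrit.eq_bot_of_flat_quotient J n hn _ f hf (LinearMap.exact_subtype_ker_map f) hker)

theorem projective_of_split (J : Ideal R) (n : ℕ) (hn : J ^ n = 0) {P M : Type u} [AddCommGroup P]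
    [Module R P] [Module.Projective R P] [AddCommGroup M] [Module R M] [Module.Flat R M] (f : P →ₗ[R] M)
    (hf : Function.Surjective f) (hker : LinearMap.ker f ≤ J • ⊤) : Module.Projective R M :=
  Module.Projective.of_equiv (LinearEquiv.ofBijective f ⟨injective_of_ker_le J n hn f hf hker, hf⟩)

/-- A flat module which is projective modulo a nilpotent ideal is projective. -/
theorem projective_of_flat_nilpotent (J : Ideal R) (n : ℕ) (hn : J ^ n = 0) (M : Type u) [AddCommGroup M]
    [Module R M] [Module.Flat R M]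
    [Module.Projective (R ⧸ J) (M ⧸ (J • ⊤ : Submodule R M))] : Module.Projective R M := by
  let π : (M →₀ R) →ₗ[R] M := Finsupp.linearCombination R (id : M → M)
  have hπ : Function.Surjective π := fun m =>
    ⟨Finsupp.single m 1, (Finsupp.linearCombination_single R (1 : R) m).trans (one_smul R m)⟩
  obtain ⟨sb, hsb⟩ := exists_section_mapQ J π hπ
  let πb := Submodule.mapQ (J • ⊤ : Submodule R (M →₀ R)) (J • ⊤ : Submodule R M) π (map_mem_smul_top J π)
  let eb : Module.End R ((M →₀ R) ⧸ (J • ⊤ : Submodule R (M →₀ R))) := sb ∘ₗ πb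
  have heb : IsIdempotentElem eb := LinearMap.ext fun x => congrArg sb (hsb (πb x))
  obtain ⟨e, he, hee⟩ := LocalCrit.exists_idempotent_lift J n hn eb heb
  let s : (M →₀ R) →ₗ[R] LinearMap.range e := e.rangeRestrict
  let i : LinearMap.range e →ₗ[R] (M →₀ R) := (LinearMap.range e).subtype
  have hsi : s ∘ₗ i = LinearMap.id := by
    refine LinearMap.ext fun ⟨p, q, hq⟩ => Subtype.ext ?_
    show e p = p
    rw [← hq, ← Module.End.mul_apply, he.eq]
  haveI : Module.Projective R (LinearMap.range e) := Module.Projective.of_split i s hsi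
  have hmk : ∀ x, (Submodule.Quotient.mk (π (e x)) : M ⧸ (J • ⊤ : Submodule R M)) =
      Submodule.Quotient.mk (π x) := by
    intro x
    show πb (Submodule.Quotient.mk (e x)) = πb (Submodule.Quotient.mk x)
    rw [← hee x]
    exact hsb (πb _)
  have hsurj : Function.Surjective (π ∘ₗ i) := by
    refine LinearMap.range_eq_top.1 (range_eq_top_of_sup_nilpotent J n hn _ fun m _ => ?_)
    obtain ⟨x, rfl⟩ := hπ m
    rw [← add_sub_cancel (π (e x)) (π x)]
    exact add_mem (Submodule.mem_sup_left ⟨⟨e x, LinearMap.mem_range_self e x⟩, rfl⟩)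
      (Submodule.mem_sup_right ((Submodule.Quotient.eq _).1 (hmk x).symm))
  have hker : LinearMap.ker (π ∘ₗ i) ≤ J • ⊤ := by
    rintro ⟨p, q, hq⟩ hp
    have h2 : e p = p := by rw [← hq, ← Module.End.mul_apply, he.eq]
    have h1 : eb (Submodule.Quotient.mk p) = 0 := by
      show sb (Submodule.Quotient.mk (π p)) = 0
      rw [show π p = 0 from hp, Submodule.Quotient.mk_zero, map_zero]
    rw [hee, h2, Submodule.Quotient.mk_eq_zero] at h1
    have h3 := map_mem_smul_top J s h1
    rw [Submodule.mem_comap] at h3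
    rwa [show s p = ⟨p, q, hq⟩ from Subtype.ext h2] at h3
  exact projective_of_split J n hn (P := ↥(LinearMap.range e)) (π ∘ₗ i) hsurj hker

end Groth.Agent.MLMod
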