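import Mathlib
import Groth.Prelude.Def_Found
import Groth.Prelude.Def_CAlgX

/-!
# Mittag-Leffler modules
-/

set_option autoImplicit false

universe u

open TensorProduct

namespace Groth.Agent.MLMod

variable {R : Type u} [CommRing R]
variable {M M' N : Type u} [AddCommGroup M] [Module R M] [AddCommGroup M'] [Module R M']
  [AddCommGroup N] [Module R N]
variable {ι : Type u} {Q : ι → Type u} [∀ i, AddCommGroup (Q i)] [∀ i, Module R (Q i)]

theorem piRightHom_eq (x : M ⊗[R] (∀ i, Q i)) (i : ι) :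
    piRightHom R R M Q x i = (LinearMap.proj i : (∀ i, Q i) →ₗ[R] Q i).lTensor M x := by
  induction x with
  | zero => simp
  | tmul m q => simp
  | add a b ha hb => simp [ha, hb]

theorem natural (f : M →ₗ[R] M') (x : M ⊗[R] (∀ i, Q i)) (i : ι) :
    piRightHom R R M' Q (f.rTensor _ x) i = f.rTensor (Q i) (piRightHom R R M Q x i) := by
  rw [piRightHom_eq, piRightHom_eq, ← LinearMap.comp_apply, ← LinearMap.comp_apply,
    LinearMap.lTensor_comp_rTensor, LinearMap.rTensor_comp_lTensor]

theorem exists_sum_tmul {n : ℕ} (v : Fin n → M) (hv : Submodule.span R (Set.range v) = ⊤)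
    (z : M ⊗[R] N) : ∃ c : Fin n → N, z = ∑ k, v k ⊗ₜ c k := by
  induction z with
  | zero => exact ⟨0, by simp⟩
  | tmul m q =>
    obtain ⟨a, ha⟩ := (Submodule.mem_span_range_iff_exists_fun R).1
      (show m ∈ Submodule.span R (Set.range v) by rw [hv]; trivial)
    refine ⟨fun k => a k • q, ?_⟩
    rw [← ha, TensorProduct.sum_tmul]
    exact Finset.sum_congr rfl fun k _ => TensorProduct.smul_tmul _ _ _
  | add a b ha hb =>
    obtain ⟨c, rfl⟩ := ha
    obtain ⟨d, rfl⟩ := hb
    exact ⟨c + d, by simp [TensorProduct.tmul_add, Finset.sum_add_distrib]⟩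

theorem piRightHom_surjective [Module.Finite R M] : Function.Surjective (piRightHom R R M Q) := by
  obtain ⟨n, v, hv⟩ := Module.Finite.exists_fin (R := R) (M := M)
  intro y
  choose c hc using fun i => exists_sum_tmul v hv (y i)
  refine ⟨∑ k, v k ⊗ₜ fun i => c i k, funext fun i => ?_⟩
  rw [hc i, map_sum, Finset.sum_apply]
  rfl

theorem isML_of_free [Module.Free R M] : CAlg.IsMittagLeffler R M := by
  classical
  intro ι Q _ _
  let b := Module.Free.chooseBasis R M
  have key : ∀ (z : M ⊗[R] (∀ i, Q i)) (j : ι) i,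
      (TensorProduct.equivFinsuppOfBasisLeft b (piRightHom R R M Q z j)) i =
        (TensorProduct.equivFinsuppOfBasisLeft b z) i j := by
    intro z j i
    induction z with
    | zero => simp
    | tmul x f => simp
    | add x y hx hy => simp [hx, hy]
  intro z w h
  apply (TensorProduct.equivFinsuppOfBasisLeft b).injective
  ext i j
  rw [← key, ← key, h]

/-- Universally injective maps reflect the Mittag-Leffler property. -/
theorem isML_of_universallyInjective (f : M →ₗ[R] M') (hf : CAlgX.UniversallyInjective R f)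
    (h : CAlg.IsMittagLeffler R M') : CAlg.IsMittagLeffler R M := by
  intro ι Q _ _
  rw [injective_iff_map_eq_zero]
  intro x hx
  refine hf (∀ i, Q i) (a₂ := 0) ?_
  refine h ι Q (funext fun i => ?_)
  rw [natural, hx, map_zero, map_zero]
  simp

theorem universallyInjective_of_leftInverse (f : M →ₗ[R] M') (g : M' →ₗ[R] M)
    (h : g.comp f = LinearMap.id) : CAlgX.UniversallyInjective R f := by
  intro Q _ _ a b hab
  have h' := congrArg (g.rTensor Q) hab
  rwa [← LinearMap.rTensor_comp_apply, ← LinearMap.rTensor_comp_apply, h, LinearMap.rTensor_id] at h'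

theorem isML_of_retract (f : M →ₗ[R] M') (g : M' →ₗ[R] M) (h : g.comp f = LinearMap.id)
    (hM : CAlg.IsMittagLeffler R M') : CAlg.IsMittagLeffler R M :=
  isML_of_universallyInjective f (universallyInjective_of_leftInverse f g h) hM

theorem isML_of_linearEquiv (e : M ≃ₗ[R] M') (hM : CAlg.IsMittagLeffler R M') :
    CAlg.IsMittagLeffler R M :=
  isML_of_retract e.toLinearMap e.symm.toLinearMap (by ext x; simp) hM

theorem isML_of_projective [Module.Projective R M] : CAlg.IsMittagLeffler R M := by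
  obtain ⟨s, hs⟩ := Module.projective_def'.1 (inferInstance : Module.Projective R M)
  exact isML_of_retract s (Finsupp.linearCombination R id) hs isML_of_free

theorem mem_range_of_rTensor_eq_zero (p : M →ₗ[R] M') (hp : Function.Surjective p) (Z : Type u)
    [AddCommGroup Z] [Module R Z] (x : M ⊗[R] Z) (hx : p.rTensor Z x = 0) :
    x ∈ LinearMap.range ((LinearMap.ker p).subtype.rTensor Z) := by
  obtain ⟨y, hy⟩ := ((rTensor_exact Z (LinearMap.exact_subtype_ker_map p) hp) x).1 hx
  exact ⟨y, hy⟩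

/-- A quotient of a Mittag-Leffler module by a finitely generated submodule is Mittag-Leffler. -/
theorem isML_quotient (K : Submodule R M) (hK : K.FG) (hM : CAlg.IsMittagLeffler R M) :
    CAlg.IsMittagLeffler R (M ⧸ K) := by
  intro ι Q _ _
  haveI : Module.Finite R K := Module.Finite.iff_fg.2 hK
  rw [injective_iff_map_eq_zero]
  intro x hx
  obtain ⟨y, rfl⟩ := LinearMap.rTensor_surjective (∀ i, Q i) K.mkQ_surjective x
  have h : ∀ i, ∃ z : K ⊗[R] Q i, K.subtype.rTensor (Q i) z = piRightHom R R M Q y i := by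
    intro i
    have h0 : K.mkQ.rTensor (Q i) (piRightHom R R M Q y i) = 0 := by
      rw [← natural, hx]; rfl
    exact ((rTensor_exact (Q i) (LinearMap.exact_subtype_mkQ K) K.mkQ_surjective) _).1 h0
  choose z hz using h
  obtain ⟨w, hw⟩ := piRightHom_surjective (M := K) z
  have : y = K.subtype.rTensor _ w := hM ι Q (funext fun i => by rw [natural, hw, hz])
  rw [this, ← LinearMap.rTensor_comp_apply, show K.mkQ.comp K.subtype = 0 by ext k; simp]
  simp

theorem isML_of_finitePresentation [Module.FinitePresentation R M] : CAlg.IsMittagLeffler R M := by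
  obtain ⟨n, v, hv⟩ := Module.Finite.exists_fin (R := R) (M := M)
  let π := Fintype.linearCombination R v
  have hπ : Function.Surjective π := by
    rw [← LinearMap.range_eq_top, Fintype.range_linearCombination, hv]
  exact isML_of_linearEquiv (π.quotKerEquivOfSurjective hπ).symm
    (isML_quotient _ (Module.FinitePresentation.fg_ker π hπ) isML_of_free)

/-- The key property of Mittag-Leffler modules: if every element of some `P ⊗ Z` killed by `ψ` is
killed by some `g j`, then a single `g j` does for all. -/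
theorem exists_dominating {P : Type u} [AddCommGroup P] [Module R P] [Module.Finite R P]
    (hM : CAlg.IsMittagLeffler R M) (ψ : P →ₗ[R] M) {J : Type u} {Y : J → Type u}
    [∀ j, AddCommGroup (Y j)] [∀ j, Module R (Y j)] (g : ∀ j, P →ₗ[R] Y j)
    (hJ : ∀ (Z : Type u) [AddCommGroup Z] [Module R Z] (x : P ⊗[R] Z),
      ψ.rTensor Z x = 0 → ∃ j, (g j).rTensor Z x = 0) :
    ∃ j, ∀ (Z : Type u) [AddCommGroup Z] [Module R Z] (x : P ⊗[R] Z),
      ψ.rTensor Z x = 0 → (g j).rTensor Z x = 0 := by
  by_contra hc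
  push Not at hc
  choose Z i₁ i₂ x hx hgx using hc
  obtain ⟨x₀, hx₀⟩ := piRightHom_surjective (M := P) (Q := Z) x
  have h0 : ψ.rTensor _ x₀ = 0 := by
    refine hM J Z (funext fun j => ?_)
    rw [natural, hx₀, hx, map_zero]
    rfl
  obtain ⟨j, hj⟩ := hJ _ x₀ h0
  refine hgx j ?_
  have := congrArg (fun w => piRightHom R R (Y j) Z w j) hj
  simpa only [natural, hx₀, map_zero, Pi.zero_apply] using this

theorem exists_fg_of_mem_range {F : Type u} [AddCommGroup F] [Module R F] (K : Submodule R F) (Z : Type u)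
    [AddCommGroup Z] [Module R Z] (z : K ⊗[R] Z) :
    ∃ L : Submodule R F, L.FG ∧ L ≤ K ∧ K.subtype.rTensor Z z ∈ LinearMap.range (L.subtype.rTensor Z) := by
  induction z with
  | zero => exact ⟨⊥, Submodule.fg_bot, bot_le, by simp⟩
  | tmul k q =>
    exact ⟨Submodule.span R {(k : F)}, Submodule.fg_span_singleton _,
      (Submodule.span_singleton_le_iff_mem _ _).2 k.2,
      ⟨(⟨k, Submodule.mem_span_singleton_self _⟩ : Submodule.span R {(k : F)}) ⊗ₜ q, rfl⟩⟩
  | add a b ha hb =>
    obtain ⟨L, hL, hLK, w, hw⟩ := ha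
    obtain ⟨L', hL', hLK', w', hw'⟩ := hb
    refine ⟨L ⊔ L', hL.sup hL', sup_le hLK hLK',
      (Submodule.inclusion le_sup_left).rTensor Z w + (Submodule.inclusion le_sup_right).rTensor Z w', ?_⟩
    rw [map_add, map_add, ← LinearMap.rTensor_comp_apply, ← LinearMap.rTensor_comp_apply,
      Submodule.subtype_comp_inclusion, Submodule.subtype_comp_inclusion, hw, hw']

/-- A presentation of a Mittag-Leffler module has dominating finitely generated relations. -/
theorem exists_fg_ker {P F : Type u} [AddCommGroup P] [Module R P] [Module.Finite R P]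
    [AddCommGroup F] [Module R F] (π : F →ₗ[R] M) (hπ : Function.Surjective π) (f : P →ₗ[R] F)
    (hM : CAlg.IsMittagLeffler R M) :
    ∃ K : Submodule R F, K.FG ∧ K ≤ LinearMap.ker π ∧
      ∀ (Z : Type u) [AddCommGroup Z] [Module R Z] (x : P ⊗[R] Z),
        (π.comp f).rTensor Z x = 0 → (K.mkQ.comp f).rTensor Z x = 0 := by
  obtain ⟨⟨K, hK⟩, h⟩ := exists_dominating hM (π.comp f)
    (J := {K : Submodule R F // K.FG ∧ K ≤ LinearMap.ker π}) (fun K => K.1.mkQ.comp f)
    fun Z _ _ x hx => by
      rw [LinearMap.rTensor_comp_apply] at hx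
      obtain ⟨z, hz⟩ := mem_range_of_rTensor_eq_zero π hπ Z _ hx
      obtain ⟨L, hL, hLK, w, hw⟩ := exists_fg_of_mem_range _ Z z
      refine ⟨⟨L, hL, hLK⟩, ?_⟩
      rw [LinearMap.rTensor_comp_apply, ← hz, ← hw, ← LinearMap.rTensor_comp_apply,
        show L.mkQ.comp L.subtype = 0 by ext k; simp]
      simp
  exact ⟨K, hK.1, hK.2, h⟩

/-- Maps from finite free modules to a Mittag-Leffler module are dominated by finitely presented
quotients. -/
theorem exists_dominated (hM : CAlg.IsMittagLeffler R M) {n : ℕ} (f : (Fin n → R) →ₗ[R] M) :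
    ∃ (Q : Type u) (_ : AddCommGroup Q) (_ : Module R Q) (_ : Module.FinitePresentation R Q)
      (g : (Fin n → R) →ₗ[R] Q) (c : Q →ₗ[R] M), f = c.comp g ∧
      ∀ (Z : Type u) [AddCommGroup Z] [Module R Z] (x : (Fin n → R) ⊗[R] Z),
        f.rTensor Z x = 0 → g.rTensor Z x = 0 := by
  classical
  let π := Finsupp.linearCombination R (id : M → M)
  have hπ : Function.Surjective π := Finsupp.linearCombination_id_surjective R M
  obtain ⟨f', hf'⟩ := Module.projective_lifting_property π f hπ
  obtain ⟨K, hK, hKπ, hdom⟩ := exists_fg_ker π hπ f' hM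
  obtain ⟨G, hG⟩ := hK
  let s : Finset M := (Finset.univ.biUnion fun i => (f' (Pi.single i 1)).support) ∪
    G.biUnion fun k => k.support
  let incl : (s →₀ R) →ₗ[R] (M →₀ R) := Finsupp.lmapDomain R R Subtype.val
  let r : (M →₀ R) →ₗ[R] (s →₀ R) := Finsupp.lcomapDomain Subtype.val Subtype.val_injective
  have hir : ∀ z : M →₀ R, (∀ m ∈ z.support, m ∈ s) → incl (r z) = z := by
    intro z hz
    refine Finsupp.mapDomain_comapDomain _ Subtype.val_injective z fun m hm => ?_
    exact ⟨⟨m, hz m hm⟩, rfl⟩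
  have hf's : incl.comp (r.comp f') = f' := by
    apply LinearMap.pi_ext'
    intro i
    apply LinearMap.ext_ring
    exact hir _ fun m hm => Finset.mem_union_left _ (Finset.mem_biUnion.2 ⟨i, Finset.mem_univ _, hm⟩)
  have hKs : ∀ k ∈ K, incl (r k) = k := by
    intro k hk
    rw [← hG] at hk
    induction hk using Submodule.span_induction with
    | mem k hk => exact hir k fun m hm => Finset.mem_union_right _ (Finset.mem_biUnion.2 ⟨k, hk, hm⟩)
    | zero => simp
    | add a b _ _ ha hb => rw [map_add, map_add, ha, hb]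
    | smul t a _ ha => rw [map_smul, map_smul, ha]
  let K' := K.map r
  have hK' : K'.FG := Submodule.FG.map _ ⟨G, hG⟩
  have hle : K' ≤ LinearMap.ker (π.comp incl) := by
    rintro _ ⟨k, hk, rfl⟩
    rw [LinearMap.mem_ker, LinearMap.comp_apply, hKs k hk]
    exact hKπ hk
  haveI : Module.FinitePresentation R ((s →₀ R) ⧸ K') :=
    Module.finitePresentation_of_surjective K'.mkQ K'.mkQ_surjective (by rwa [Submodule.ker_mkQ])
  refine ⟨_, inferInstance, inferInstance, inferInstance, K'.mkQ.comp (r.comp f'),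
    K'.liftQ _ hle, ?_, fun Z _ _ x hx => ?_⟩
  · rw [← LinearMap.comp_assoc, Submodule.liftQ_mkQ, LinearMap.comp_assoc, hf's, hf']
  · rw [← hf'] at hx
    have h := hdom Z x hx
    have e : K'.mkQ.comp (r.comp f') = (K.mapQ K' r (Submodule.le_comap_map r K)).comp (K.mkQ.comp f') := by
      ext; rfl
    rw [e, LinearMap.rTensor_comp_apply, h, map_zero]

theorem exists_finFree_tmul (x : M ⊗[R] N) :
    ∃ (n : ℕ) (f : (Fin n → R) →ₗ[R] M) (y : (Fin n → R) ⊗[R] N), f.rTensor N y = x := by
  obtain ⟨S, hS⟩ := TensorProduct.exists_finset x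
  refine ⟨S.card, Fintype.linearCombination R (fun k => (S.equivFin.symm k).1.1),
    ∑ k, Pi.single k 1 ⊗ₜ (S.equivFin.symm k).1.2, ?_⟩
  rw [map_sum, hS]
  simp only [LinearMap.rTensor_tmul, Fintype.linearCombination_apply_single, one_smul]
  rw [Equiv.sum_comp S.equivFin.symm fun p => (p.1.1 ⊗ₜ[R] p.1.2)]
  exact (Finset.sum_coe_sort S fun p => p.1 ⊗ₜ[R] p.2)

/-- A module all whose finite free test maps are dominated by Mittag-Leffler ones is Mittag-Leffler. -/
theorem isML_of_dominated
    (h : ∀ (n : ℕ) (f : (Fin n → R) →ₗ[R] M), ∃ (Q : Type u) (_ : AddCommGroup Q) (_ : Module R Q)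
      (g : (Fin n → R) →ₗ[R] Q), CAlg.IsMittagLeffler R Q ∧
        ∀ (Z : Type u) [AddCommGroup Z] [Module R Z],
          LinearMap.ker (f.rTensor Z) = LinearMap.ker (g.rTensor Z)) :
    CAlg.IsMittagLeffler R M := by
  intro ι Z _ _
  rw [injective_iff_map_eq_zero]
  intro x hx
  obtain ⟨n, f, y, rfl⟩ := exists_finFree_tmul x
  obtain ⟨Q, _, _, g, hQ, hg⟩ := h n f
  refine (hg (∀ i, Z i)).ge (hQ ι Z (funext fun i => ?_) : g.rTensor _ y = 0)
  rw [natural, map_zero, Pi.zero_apply]
  refine (hg (Z i)).le ?_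
  rw [LinearMap.mem_ker, ← natural, hx]
  rfl

theorem ker_eq_of_dominated {P Q : Type u} [AddCommGroup P] [Module R P] [AddCommGroup Q] [Module R Q]
    {f : P →ₗ[R] M} {g : P →ₗ[R] Q} {c : Q →ₗ[R] M} (hfc : f = c.comp g)
    (h : ∀ (Z : Type u) [AddCommGroup Z] [Module R Z] (x : P ⊗[R] Z),
        f.rTensor Z x = 0 → g.rTensor Z x = 0) (Z : Type u) [AddCommGroup Z] [Module R Z] :
    LinearMap.ker (f.rTensor Z) = LinearMap.ker (g.rTensor Z) := by
  ext x
  refine ⟨h Z x, fun hx => ?_⟩
  rw [LinearMap.mem_ker] at hx ⊢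
  rw [hfc, LinearMap.rTensor_comp_apply, hx, map_zero]

theorem isML_iff_dominated :
    CAlg.IsMittagLeffler R M ↔
      ∀ (n : ℕ) (f : (Fin n → R) →ₗ[R] M),
        ∃ (Q : Type u) (_ : AddCommGroup Q) (_ : Module R Q) (_ : Module.FinitePresentation R Q)
          (g : (Fin n → R) →ₗ[R] Q),
          ∀ (Z : Type u) [AddCommGroup Z] [Module R Z],
            LinearMap.ker (f.rTensor Z) = LinearMap.ker (g.rTensor Z) := by
  refine ⟨fun hM n f => ?_, fun h => isML_of_dominated fun n f => ?_⟩
  · obtain ⟨Q, i1, i2, i3, g, c, hfc, hd⟩ := exists_dominated hM f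
    exact ⟨Q, i1, i2, i3, g, fun Z _ _ => ker_eq_of_dominated hfc hd Z⟩
  · obtain ⟨Q, i1, i2, i3, g, hg⟩ := h n f
    exact ⟨Q, i1, i2, g, isML_of_finitePresentation, hg⟩

end Groth.Agent.MLMod
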