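import Groth.Agent.MLMod.Basic

/-!
# Tensor products with colimits
-/

set_option autoImplicit false

universe u

open TensorProduct

namespace Groth.Agent.MLMod

variable {R : Type u} [CommRing R] {ι : Type u} [Preorder ι] [IsDirected ι (· ≤ ·)] [Nonempty ι]
  [DecidableEq ι] {G : ι → Type u} [∀ i, AddCommGroup (G i)] [∀ i, Module R (G i)]
  (f : ∀ i j, i ≤ j → G i →ₗ[R] G j) [DirectedSystem G fun i j h => f i j h]

theorem exists_rTensor_of {Z : Type u} [AddCommGroup Z] [Module R Z] (x : Module.DirectLimit G f ⊗[R] Z) :
    ∃ (i : ι) (y : G i ⊗[R] Z), (Module.DirectLimit.of R ι G f i).rTensor Z y = x := by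
  obtain ⟨i, y, hy⟩ := Module.DirectLimit.exists_of (TensorProduct.directLimitLeft f Z x)
  refine ⟨i, y, (TensorProduct.directLimitLeft f Z).injective ?_⟩
  rw [TensorProduct.directLimitLeft_rTensor_of]
  exact hy

theorem exists_of_rTensor_eq_zero {Z : Type u} [AddCommGroup Z] [Module R Z] {i : ι} (y : G i ⊗[R] Z)
    (hy : (Module.DirectLimit.of R ι G f i).rTensor Z y = 0) :
    ∃ (j : ι) (h : i ≤ j), (f i j h).rTensor Z y = 0 := by
  haveI : DirectedSystem (fun i => G i ⊗[R] Z) fun i j h => (f i j h).rTensor Z :=
    { map_self := fun i x => by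
        rw [show f i i le_rfl = LinearMap.id from LinearMap.ext fun z => DirectedSystem.map_self (f := fun i j h => f i j h) z,
          LinearMap.rTensor_id, LinearMap.id_apply]
      map_map := fun k j i hkj hjk x => by
        rw [← LinearMap.rTensor_comp_apply]
        congr 2
        exact LinearMap.ext fun z => DirectedSystem.map_map (f := fun i j h => f i j h) hkj hjk z }
  have h := congrArg (TensorProduct.directLimitLeft f Z) hy
  rw [TensorProduct.directLimitLeft_rTensor_of, map_zero] at h
  exact Module.DirectLimit.of.zero_exact h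

theorem universallyInjective_of (hf : ∀ i j (h : i ≤ j), CAlgX.UniversallyInjective R (f i j h)) (i : ι) :
    CAlgX.UniversallyInjective R (Module.DirectLimit.of R ι G f i) := by
  intro Z _ _
  rw [injective_iff_map_eq_zero]
  intro y hy
  obtain ⟨j, hij, hj⟩ := exists_of_rTensor_eq_zero f y hy
  exact hf i j hij Z (hj.trans (map_zero _).symm)

end Groth.Agent.MLMod
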