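import Groth.Prelude.Def_Found
import Mathlib.LinearAlgebra.Projection
import Mathlib.Algebra.DirectSum.Module
import Mathlib.Order.SuccPred.Limit
import Mathlib.SetTheory.Cardinal.Order
import Mathlib.Order.WithBot

/-!
Direct sum devissages indexed by well-ordered sets.
-/

set_option autoImplicit false
universe u

namespace Groth.Agent.MLMod

variable {R : Type u} [CommRing R] {M : Type u} [AddCommGroup M] [Module R M]

theorem nonempty_quotient_equiv_complement {A B C : Submodule R M} (h1 : A ⊓ C = ⊥) (h2 : A ⊔ C = B) :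
    Nonempty ((↥B ⧸ A.comap B.subtype) ≃ₗ[R] C) := by
  have hA : A ≤ B := le_sup_left.trans h2.le
  have hC : C ≤ B := le_sup_right.trans h2.le
  have hcompl : IsCompl (A.comap B.subtype) (C.comap B.subtype) := by
    refine IsCompl.of_eq ?_ ?_
    · rw [← Submodule.comap_inf, h1]
      exact LinearMap.ker_eq_bot.2 B.injective_subtype
    · apply Submodule.map_injective_of_injective B.injective_subtype
      rw [Submodule.map_sup, Submodule.map_comap_subtype, Submodule.map_comap_subtype,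
        inf_eq_right.2 hA, inf_eq_right.2 hC, h2, Submodule.map_top, Submodule.range_subtype]
  exact ⟨(Submodule.quotientEquivOfIsCompl _ _ hcompl).trans (Submodule.comapSubtypeEquivOfLe hC)⟩

variable {S : Type u} [LinearOrder S] [WellFoundedLT S] (Mf : S → Submodule R M) (hmono : Monotone Mf)

include hmono in
theorem exists_family_of_devissage
    (hlim : ∀ s : S, Order.IsSuccPrelimit s → Mf s = ⨆ t : {t : S // t < s}, Mf t.1)
    (htop : (⨆ s, Mf s) = ⊤)
    (hsucc : ∀ s t : S, s ⋖ t → ∃ C : Submodule R M, Mf s ⊓ C = ⊥ ∧ Mf s ⊔ C = Mf t) :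
    ∃ C : {p : S × S // p.1 ⋖ p.2} → Submodule R M, iSupIndep C ∧ (⨆ p, C p) = ⊤ ∧
      ∀ p, Mf p.1.1 ⊓ C p = ⊥ ∧ Mf p.1.1 ⊔ C p = Mf p.1.2 := by
  classical
  choose C hC1 hC2 using fun p : {p : S × S // p.1 ⋖ p.2} => hsucc p.1.1 p.1.2 p.2
  refine ⟨C, iSupIndep_iff_supIndep.2 fun s => ?_, eq_top_iff.2 ?_, fun p => ⟨hC1 p, hC2 p⟩⟩
  · induction s using Finset.induction_on_max_value (fun p : {p : S × S // p.1 ⋖ p.2} => p.1.1) with
    | empty => exact Finset.supIndep_empty C
    | insert a s ha hmax ih =>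
      refine ih.insert ((disjoint_iff.2 (hC1 a)).symm.mono_right (Finset.sup_le fun p hp => ?_))
      have hne : p.1.1 ≠ a.1.1 := by
        intro h
        have h12 : p.1.2 = a.1.2 := le_antisymm
          (le_of_not_gt fun hh => p.2.2 (h ▸ a.2.lt : p.1.1 < a.1.2) hh)
          (le_of_not_gt fun hh => a.2.2 (h ▸ p.2.lt : a.1.1 < p.1.2) hh)
        exact ha (by rwa [show a = p from Subtype.ext (Prod.ext h.symm h12.symm)])
      have hlt : p.1.1 < a.1.1 := lt_of_le_of_ne (hmax p hp) hne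
      exact le_sup_right.trans ((hC2 p).le.trans (hmono (le_of_not_gt fun hh => p.2.2 hlt hh)))
  · rw [← htop]
    refine iSup_le fun s => ?_
    induction s using WellFoundedLT.induction with
    | _ s ih =>
      by_cases hs : Order.IsSuccPrelimit s
      · rw [hlim s hs]
        exact iSup_le fun t => ih t.1 t.2
      · obtain ⟨t, ht⟩ := Order.not_isSuccPrelimit_iff_exists_covBy.1 hs
        exact (hC2 ⟨(t, s), ht⟩).ge.trans (sup_le (ih t ht.lt) (le_iSup C _))

include hmono in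
theorem nonempty_equiv_directSum_of_devissage
    (hlim : ∀ s : S, Order.IsSuccPrelimit s → Mf s = ⨆ t : {t : S // t < s}, Mf t.1)
    (htop : (⨆ s, Mf s) = ⊤)
    (hsucc : ∀ s t : S, s ⋖ t → ∃ C : Submodule R M, Mf s ⊓ C = ⊥ ∧ Mf s ⊔ C = Mf t) :
    Nonempty (M ≃ₗ[R] DirectSum {p : S × S // p.1 ⋖ p.2}
        fun p => ↥(Mf p.1.2) ⧸ Submodule.comap (Mf p.1.2).subtype (Mf p.1.1)) := by
  classical
  obtain ⟨C, hind, hsup, hC⟩ := exists_family_of_devissage Mf hmono hlim htop hsucc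
  let e := fun p => (nonempty_quotient_equiv_complement (hC p).1 (hC p).2).some
  exact ⟨(LinearEquiv.ofBijective (DirectSum.coeLinearMap C)
    (DirectSum.isInternal_submodule_of_iSupIndep_of_iSup_eq_top hind hsup)).symm.trans
      (DFinsupp.mapRange.linearEquiv fun p => (e p).symm)⟩

theorem exists_devissage_of_isInternal {ι : Type u} (N : ι → Submodule R M) (hind : iSupIndep N)
    (hsup : ⨆ i, N i = ⊤) (hc : ∀ i, CAlg.IsCountablyGenerated R (N i)) :
      ∃ (S : Type u) (_ : LinearOrder S) (_ : WellFoundedLT S) (Mf : S → Submodule R M), Monotone Mf ∧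
        (∀ s : S, Order.IsSuccPrelimit s → Mf s = ⨆ t : {t : S // t < s}, Mf t.1) ∧
        (⨆ s, Mf s) = ⊤ ∧
        (∀ s t : S, s ⋖ t → ∃ C : Submodule R M, Mf s ⊓ C = ⊥ ∧ Mf s ⊔ C = Mf t ∧
          CAlg.IsCountablyGenerated R (↥(Mf t) ⧸ Submodule.comap (Mf t).subtype (Mf s))) := by
  classical
  obtain ⟨lo, wf⟩ := exists_wellFoundedLT ι
  letI := lo
  haveI := wf
  let F : WithTop ι → Submodule R M := fun s => ⨆ (i : ι) (_ : (i : WithTop ι) < s), N i
  have hF : Monotone F := fun s t hst => biSup_mono fun i hi => lt_of_lt_of_le hi hst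
  refine ⟨WithTop ι, inferInstance, inferInstance, F, hF, fun s hs => ?_, ?_, fun s t hst => ?_⟩
  · refine le_antisymm (iSup₂_le fun i hi => ?_) (iSup_le fun t => hF t.2.le)
    obtain ⟨c, hc1, hc2⟩ := exists_lt_lt_of_not_covBy hi (hs _)
    exact le_iSup_of_le ⟨c, hc2⟩ (le_iSup₂_of_le i hc1 le_rfl)
  · rw [eq_top_iff, ← hsup]
    exact iSup_le fun i => le_iSup_of_le ⊤ (le_iSup₂_of_le i (WithTop.coe_lt_top i) le_rfl)
  · obtain ⟨i, rfl⟩ := WithTop.ne_top_iff_exists.1 hst.lt.ne_top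
    have h1 : F i ⊓ N i = ⊥ := by
      rw [inf_comm, ← disjoint_iff]
      exact (hind i).mono_right (iSup₂_le fun j hj =>
        le_iSup₂_of_le j (ne_of_lt (WithTop.coe_lt_coe.1 hj)) le_rfl)
    have h2 : F i ⊔ N i = F t := by
      refine le_antisymm (sup_le (hF hst.le) (le_iSup₂_of_le i hst.lt le_rfl)) (iSup₂_le fun j hj => ?_)
      rcases lt_trichotomy j i with h | rfl | h
      · exact le_sup_of_le_left (le_iSup₂_of_le j (WithTop.coe_lt_coe.2 h) le_rfl)
      · exact le_sup_right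
      · exact absurd hj (hst.2 (WithTop.coe_lt_coe.2 h))
    obtain ⟨e⟩ := nonempty_quotient_equiv_complement h1 h2
    obtain ⟨T, hT, hTtop⟩ := hc i
    exact ⟨N i, h1, h2, e.symm '' T, hT.image _, by
      rw [← LinearEquiv.coe_coe, ← Submodule.map_span, hTtop, Submodule.map_top,
        LinearMap.range_eq_top]
      exact e.symm.surjective⟩

include hmono in
theorem isInternal_of_devissage
    (hlim : ∀ s : S, Order.IsSuccPrelimit s → Mf s = ⨆ t : {t : S // t < s}, Mf t.1)
    (htop : (⨆ s, Mf s) = ⊤)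
    (hsucc : ∀ s t : S, s ⋖ t → ∃ C : Submodule R M, Mf s ⊓ C = ⊥ ∧ Mf s ⊔ C = Mf t ∧
      CAlg.IsCountablyGenerated R (↥(Mf t) ⧸ Submodule.comap (Mf t).subtype (Mf s))) :
    ∃ (ι : Type u) (N : ι → Submodule R M), iSupIndep N ∧ (⨆ i, N i) = ⊤ ∧
      ∀ i, CAlg.IsCountablyGenerated R (N i) := by
  obtain ⟨C, hind, hsup, hC⟩ := exists_family_of_devissage Mf hmono hlim htop fun s t h =>
    (hsucc s t h).imp fun _ hc => ⟨hc.1, hc.2.1⟩
  refine ⟨_, C, hind, hsup, fun p => ?_⟩
  obtain ⟨e⟩ := nonempty_quotient_equiv_complement (hC p).1 (hC p).2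
  obtain ⟨-, -, -, T, hT, hTtop⟩ := hsucc _ _ p.2
  exact ⟨e '' T, hT.image _, by
    rw [← LinearEquiv.coe_coe, ← Submodule.map_span, hTtop, Submodule.map_top, LinearMap.range_eq_top]
    exact e.surjective⟩

end Groth.Agent.MLMod
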