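import Groth.Agent.MLMod.Colim
import Groth.Agent.MLMod.Ops

/-!
# Flat Mittag-Leffler modules and smallest submodules; domination and factorisation
-/

set_option autoImplicit false

universe u

open TensorProduct

namespace Groth.Agent.MLMod

variable {R : Type u} [CommRing R] {M : Type u} [AddCommGroup M] [Module R M]

theorem mem_range_iff_mkQ {F : Type u} [AddCommGroup F] [Module R F] (F' : Submodule R F)
    (x : F ⊗[R] M) : x ∈ LinearMap.range (F'.subtype.rTensor M) ↔ F'.mkQ.rTensor M x = 0 :=
  ((rTensor_exact M (LinearMap.exact_subtype_mkQ F') F'.mkQ_surjective) x).symm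

/-- For a flat Mittag-Leffler module there is a smallest submodule containing a given tensor. -/
theorem exists_smallest [Module.Flat R M] (hM : CAlg.IsMittagLeffler R M) {F : Type u}
    [AddCommGroup F] [Module R F] (x : F ⊗[R] M) :
    ∃ F' : Submodule R F, x ∈ LinearMap.range (F'.subtype.rTensor M) ∧
      ∀ F'' : Submodule R F, x ∈ LinearMap.range (F''.subtype.rTensor M) → F' ≤ F'' := by
  let J := {F'' : Submodule R F // x ∈ LinearMap.range (F''.subtype.rTensor M)}
  let θ : F →ₗ[R] ∀ j : J, F ⧸ j.1 := LinearMap.pi fun j => j.1.mkQ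
  refine ⟨LinearMap.ker θ, ?_, fun F'' h z hz => ?_⟩
  · have h0 : θ.rTensor M x = 0 := by
      apply (TensorProduct.comm R (∀ j : J, F ⧸ j.1) M).injective
      rw [map_zero]
      refine hM _ _ (funext fun j => ?_)
      rw [map_zero, Pi.zero_apply, piRightHom_eq]
      have e : ∀ y : F ⊗[R] M, (LinearMap.proj j : (∀ j : J, F ⧸ j.1) →ₗ[R] _).lTensor M
          (TensorProduct.comm R _ M (θ.rTensor M y)) = TensorProduct.comm R _ M (j.1.mkQ.rTensor M y) := fun y => by
        induction y with
        | zero => simp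
        | tmul a b => rfl
        | add a b ha hb => simp only [map_add, ha, hb]
      rw [e, (mem_range_iff_mkQ j.1 x).1 j.2, map_zero]
    obtain ⟨y, hy⟩ := ((Module.Flat.rTensor_exact M (LinearMap.exact_subtype_ker_map θ)) x).1 h0
    exact ⟨y, hy⟩
  · exact (Submodule.Quotient.mk_eq_zero _).1 (congrFun (LinearMap.mem_ker.1 hz) ⟨F'', h⟩)

theorem smallest_fg {F : Type u} [AddCommGroup F] [Module R F] (x : F ⊗[R] M) {F' : Submodule R F}
    (hx : x ∈ LinearMap.range (F'.subtype.rTensor M))
    (hmin : ∀ F'' : Submodule R F, x ∈ LinearMap.range (F''.subtype.rTensor M) → F' ≤ F'') : F'.FG := by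
  obtain ⟨z, rfl⟩ := hx
  obtain ⟨L, hL, hLF, hxL⟩ := exists_fg_of_mem_range F' M z
  rwa [le_antisymm (hmin L hxL) hLF]

/-- A flat module with smallest submodules for all finite free modules is Mittag-Leffler. -/
theorem isML_of_smallest [Module.Flat R M]
    (h : ∀ (n : ℕ) (x : (Fin n → R) ⊗[R] M), ∃ F' : Submodule R (Fin n → R),
        x ∈ LinearMap.range (F'.subtype.rTensor M) ∧
        ∀ F'' : Submodule R (Fin n → R), x ∈ LinearMap.range (F''.subtype.rTensor M) → F' ≤ F'') :
    CAlg.IsMittagLeffler R M := by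
  classical
  refine isML_of_dominated fun n f => ?_
  let x : (Fin n → R) ⊗[R] M := ∑ i, (Pi.single i 1 : Fin n → R) ⊗ₜ f (Pi.single i 1)
  obtain ⟨F', hxF, hmin⟩ := h n x
  haveI : Module.Finite R F' := Module.Finite.iff_fg.2 (smallest_fg x hxF hmin)
  obtain ⟨k, v, hv⟩ := Module.Finite.exists_fin (R := R) (M := F')
  obtain ⟨z, hz⟩ := hxF
  obtain ⟨y, rfl⟩ := exists_sum_tmul v hv z
  have hfy : ∀ i, f (Pi.single i 1) = ∑ j, (v j : Fin n → R) i • y j := by
    intro i
    have h1 := congrArg (fun w => TensorProduct.lid R M ((LinearMap.proj i : (Fin n → R) →ₗ[R] R).rTensor M w)) hz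
    simp [x, Pi.single_apply, map_sum, LinearMap.rTensor_tmul] at h1
    exact h1.symm
  let g : (Fin n → R) →ₗ[R] (Fin k → R) := Fintype.linearCombination R fun i j => (v j : Fin n → R) i
  let c : (Fin k → R) →ₗ[R] M := Fintype.linearCombination R y
  refine ⟨Fin k → R, inferInstance, inferInstance, g, isML_of_free, fun Z _ _ => ?_⟩
  refine ker_eq_of_dominated (c := c) ?_ (fun Z _ _ w hw => ?_) Z
  · apply LinearMap.pi_ext'
    intro i
    apply LinearMap.ext_ring
    simp [g, c, hfy, Fintype.linearCombination_apply_single, Fintype.linearCombination_apply]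
  · obtain ⟨a, rfl⟩ := exists_sum_tmul (fun i => (Pi.single i 1 : Fin n → R))
      (by
        rw [← Fintype.range_linearCombination, LinearMap.range_eq_top]
        exact fun a => ⟨a, by ext j; simp [Fintype.linearCombination_apply, Pi.single_apply]⟩) w
    let φ : (Fin n → R) →ₗ[R] Z := Fintype.linearCombination R a
    have hx0 : φ.rTensor M x = 0 := by
      apply (TensorProduct.comm R Z M).injective
      rw [map_zero]
      simpa [x, φ, map_sum, Fintype.linearCombination_apply_single] using hw
    obtain ⟨u, hu⟩ := ((Module.Flat.rTensor_exact M (LinearMap.exact_subtype_ker_map φ)) x).1 hx0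
    have hle := hmin _ ⟨u, hu⟩
    have hj : ∀ j, ∑ i, (v j : Fin n → R) i • a i = 0 := fun j => by
      have := hle (v j).2
      rwa [LinearMap.mem_ker, Fintype.linearCombination_apply] at this
    simp only [map_sum, LinearMap.rTensor_tmul, g, Fintype.linearCombination_apply_single, one_smul]
    have e : ∀ i, (fun j => (v j : Fin n → R) i) ⊗ₜ[R] a i =
        ∑ j, (Pi.single j 1 : Fin k → R) ⊗ₜ ((v j : Fin n → R) i • a i) := fun i => by
      simp only [← TensorProduct.smul_tmul, ← TensorProduct.sum_tmul]
      congr 1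
      ext j
      simp [Pi.single_apply]
    simp only [e]
    rw [Finset.sum_comm]
    simp only [← TensorProduct.tmul_sum, hj, TensorProduct.tmul_zero, Finset.sum_const_zero]

variable {N M' : Type u} [AddCommGroup N] [Module R N] [AddCommGroup M'] [Module R M']

/-- If `g` dominates `f` and `coker f` is finitely presented then `g` factors through `f`. -/
theorem exists_factor (f : M →ₗ[R] N) (g : M →ₗ[R] M')
    [Module.FinitePresentation R (N ⧸ LinearMap.range f)]
    (h : ∀ (Q : Type u) [AddCommGroup Q] [Module R Q] (x : M ⊗[R] Q),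
      f.rTensor Q x = 0 → g.rTensor Q x = 0) :
    ∃ l : N →ₗ[R] M', g = l ∘ₗ f := by
  classical
  obtain ⟨n, v, hv⟩ := Module.Finite.exists_fin (R := R) (M := N ⧸ LinearMap.range f)
  choose p hp using fun k => Submodule.mkQ_surjective (LinearMap.range f) (v k)
  let π := Fintype.linearCombination R v
  have hπ : Function.Surjective π := by
    rw [← LinearMap.range_eq_top, Fintype.range_linearCombination, hv]
  obtain ⟨G, hG⟩ := Module.FinitePresentation.fg_ker π hπ
  let pN : (Fin n → R) →ₗ[R] N := Fintype.linearCombination R p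
  have hpN : ∀ z, (LinearMap.range f).mkQ (pN z) = π z := fun z => by
    simp [pN, π, Fintype.linearCombination_apply, map_sum, hp]
  have hzker : ∀ z ∈ G, pN z ∈ LinearMap.range f := fun z hz => by
    rw [← (LinearMap.range f).ker_mkQ, LinearMap.mem_ker, hpN]
    exact hG.le (Submodule.subset_span hz)
  choose m hm using fun z : G => hzker z.1 z.2
  let A : (Fin n → R) →ₗ[R] (G → R) :=
    Fintype.linearCombination R fun k (z : G) => (z.1 k)
  let Q := (G → R) ⧸ LinearMap.range A
  let ē : G → Q := fun z => (LinearMap.range A).mkQ (Pi.single z 1)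
  have hw : f.rTensor Q (∑ z, m z ⊗ₜ ē z) = 0 := by
    rw [map_sum]
    simp only [LinearMap.rTensor_tmul, hm, pN, Fintype.linearCombination_apply, TensorProduct.sum_tmul,
      TensorProduct.smul_tmul]
    rw [Finset.sum_comm]
    refine Finset.sum_eq_zero fun k _ => ?_
    rw [← TensorProduct.tmul_sum]
    have e : ∑ z : G, z.1 k • ē z = 0 := by
      have e2 : ∑ z : G, z.1 k • (Pi.single z 1 : G → R) = A (Pi.single k 1) := by
        funext z
        simp [A, Fintype.linearCombination_apply_single, Pi.single_apply, Finset.sum_apply]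
      simp only [ē, ← map_smul, ← map_sum, e2]
      exact (Submodule.Quotient.mk_eq_zero _).2 ⟨_, rfl⟩
    rw [e, TensorProduct.tmul_zero]
  have hgw := h Q _ hw
  rw [map_sum] at hgw
  simp only [LinearMap.rTensor_tmul] at hgw
  have hmem : (∑ z, g (m z) ⊗ₜ[R] (Pi.single z (1 : R) : G → R)) ∈
      LinearMap.range (A.lTensor M') := by
    refine ((lTensor_exact M' (LinearMap.exact_iff.2 (Submodule.ker_mkQ _)) (Submodule.mkQ_surjective _)) _).1 ?_
    simpa only [map_sum, LinearMap.lTensor_tmul] using hgw
  obtain ⟨w, hwA⟩ := hmem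
  obtain ⟨c, rfl⟩ : ∃ c : Fin n → M', w = ∑ k, c k ⊗ₜ (Pi.single k 1 : Fin n → R) := by
    obtain ⟨c, hc⟩ := exists_sum_tmul (fun i => (Pi.single i 1 : Fin n → R))
      (by
        rw [← Fintype.range_linearCombination, LinearMap.range_eq_top]
        exact fun a => ⟨a, by ext j; simp [Fintype.linearCombination_apply, Pi.single_apply]⟩)
      (TensorProduct.comm R _ _ w)
    refine ⟨c, (TensorProduct.comm R M' (Fin n → R)).injective ?_⟩
    rw [hc, map_sum]
    simp
  have hcz : ∀ z : G, ∑ k, z.1 k • c k = g (m z) := fun z => by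
    have h1 := congrArg (fun t => TensorProduct.rid R M' ((LinearMap.proj z : (G → R) →ₗ[R] R).lTensor M' t)) hwA
    simpa [A, map_sum, Fintype.linearCombination_apply_single, Pi.single_apply] using h1
  let cM : (Fin n → R) →ₗ[R] M' := Fintype.linearCombination R c
  let tot : M × (Fin n → R) →ₗ[R] N := f.coprod pN
  let tot' : M × (Fin n → R) →ₗ[R] M' := g.coprod cM
  have htot : Function.Surjective tot := fun y => by
    obtain ⟨a, ha⟩ := hπ ((LinearMap.range f).mkQ y)
    obtain ⟨b, hb⟩ : y - pN a ∈ LinearMap.range f := by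
      rw [← (LinearMap.range f).ker_mkQ, LinearMap.mem_ker, map_sub, hpN, ha, sub_self]
    exact ⟨(b, a), by simp [tot, hb]⟩
  have hker : ∀ s, tot s = 0 → tot' s = 0 := by
    rintro ⟨b, a⟩ hs
    have ha : π a = 0 := by
      rw [← hpN, show pN a = - f b from eq_neg_of_add_eq_zero_right hs, map_neg, neg_eq_zero]
      exact (Submodule.Quotient.mk_eq_zero _).2 ⟨b, rfl⟩
    obtain ⟨e, he⟩ := (Submodule.mem_span_finset' (R := R)).1 (show a ∈ Submodule.span R (G : Set (Fin n → R)) from hG.ge ha)
    have hb : f (b + ∑ z, e z • m z) = 0 := by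
      rw [map_add, map_sum]
      simp only [map_smul, hm]
      rw [← show pN a = ∑ z, e z • pN z.1 by rw [← he, map_sum]; simp only [map_smul]]
      exact hs
    have hg0 : g (b + ∑ z, e z • m z) = 0 := by
      have h2 := congrArg (TensorProduct.rid R M') (h R ((b + ∑ z, e z • m z) ⊗ₜ 1) (by
        rw [LinearMap.rTensor_tmul, hb, TensorProduct.zero_tmul]))
      simpa using h2
    show g b + cM a = 0
    rw [← hg0, map_add, map_sum, ← he, map_sum]
    congr 1
    refine Finset.sum_congr rfl fun z _ => ?_
    rw [map_smul, map_smul, ← hcz z]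
    simp [cM, Fintype.linearCombination_apply]
  refine ⟨(LinearMap.ker tot).liftQ tot' hker ∘ₗ (tot.quotKerEquivOfSurjective htot).symm.toLinearMap, ?_⟩
  ext b
  have e1 : (tot.quotKerEquivOfSurjective htot).symm (f b) = Submodule.Quotient.mk (b, 0) :=
    (LinearEquiv.symm_apply_eq _).2 (by simp [tot, LinearMap.quotKerEquivOfSurjective])
  rw [LinearMap.comp_apply, LinearMap.comp_apply, LinearEquiv.coe_coe, e1]
  simp [tot']

end Groth.Agent.MLMod
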