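import Groth.Agent.MLMod.Countable
import Groth.Agent.S0499
import Mathlib.RingTheory.AdjoinRoot
import Mathlib.LinearAlgebra.Matrix.Charpoly.LinearMap

/-!
Countably generated Mittag-Leffler modules over henselian local rings.
-/

set_option autoImplicit false
universe u
open TensorProduct Polynomial

namespace Groth.Agent.MLMod

variable {R : Type u} [CommRing R] [HenselianLocalRing R]

theorem exists_idempotent_split (A : Type u) [CommRing A] [Algebra R A] [Module.Finite R A] (t : A) :
    ∃ e u : A, IsIdempotentElem e ∧ e * (t * u) = e ∧ IsUnit (1 - t * (1 - e)) := by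
  classical
  obtain ⟨ι, _, B, _, hloc, ⟨E⟩⟩ := S0499.result R A
  let e : ∀ i, B i := fun i => if IsUnit (E t i) then 1 else 0
  let u : ∀ i, B i := fun i => if h : IsUnit (E t i) then ↑h.unit⁻¹ else 0
  refine ⟨E.symm e, E.symm u, E.injective ?_, E.injective ?_, ?_⟩
  · simp only [map_mul, RingEquiv.apply_symm_apply]
    funext i
    by_cases h : IsUnit (E t i) <;> simp [e, h]
  · simp only [map_mul, RingEquiv.apply_symm_apply]
    funext i
    by_cases h : IsUnit (E t i) <;> simp [e, u, h]
  · rw [← MulEquiv.isUnit_map E.toMulEquiv, Pi.isUnit_iff]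
    intro i
    haveI := hloc i
    show IsUnit (E (1 - t * (1 - E.symm e)) i)
    simp only [map_mul, map_sub, map_one, RingEquiv.apply_symm_apply, Pi.sub_apply, Pi.mul_apply, Pi.one_apply]
    by_cases h : IsUnit (E t i)
    · simp [e, h]
    · simp only [e, h, if_false, sub_zero, mul_one]
      exact IsLocalRing.isUnit_one_sub_self_of_mem_nonunits _ h

variable {M : Type u} [AddCommGroup M] [Module R M]

theorem exists_fp_summand (hML : CAlg.IsMittagLeffler R M) (hc : CAlg.IsCountablyGenerated R M) (x : M) :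
    ∃ N K : Submodule R M, IsCompl N K ∧ Module.FinitePresentation R N ∧ x ∈ N := by
  obtain ⟨Q, _, _, _, a, b, hab⟩ := exists_endo hML hc (LinearMap.toSpanSingleton R M x)
  have hx : b (a x) = x := by
    have := LinearMap.congr_fun hab 1
    simpa using this
  let φ : Module.End R Q := a ∘ₗ b
  obtain ⟨p, hp, hφ⟩ := LinearMap.exists_monic_and_aeval_eq_zero R φ
  haveI := hp.finite_quotient
  let Ψ : (R[X] ⧸ Ideal.span {p}) →ₐ[R] Module.End R Q :=
    Ideal.Quotient.liftₐ _ (Polynomial.aeval φ) fun q hq => by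
      obtain ⟨r, rfl⟩ := Ideal.mem_span_singleton'.1 hq
      rw [map_mul, hφ, mul_zero]
  let t : R[X] ⧸ Ideal.span {p} := Ideal.Quotient.mk _ Polynomial.X
  have ht : Ψ t = φ := Polynomial.aeval_X φ
  obtain ⟨e, u, he, heu, hunit⟩ := exists_idempotent_split (R := R) _ t
  let E : Module.End R Q := Ψ e
  have hE : IsIdempotentElem E := he.map Ψ
  have hfix : φ (a x) = a x := congrArg a hx
  have hcomm : ∀ z, φ (Ψ (1 - e) z) = Ψ (1 - e) (φ z) := fun z => by
    rw [← ht, ← Module.End.mul_apply, ← map_mul, mul_comm, map_mul]; rfl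
  have hax : E (a x) = a x := by
    obtain ⟨v, hv⟩ := hunit
    have h0 : Ψ (1 - t * (1 - e)) (Ψ (1 - e) (a x)) = 0 := by
      have h1 : (1 - t * (1 - e)) * (1 - e) = (1 - e) - (1 - e) * t := by
        linear_combination (-t) * he.eq
      rw [← Module.End.mul_apply, ← map_mul, h1, map_sub, LinearMap.sub_apply, map_mul,
        Module.End.mul_apply, ht, hfix, sub_self]
    have h2 : Ψ (1 - e) (a x) = 0 := by
      have h3 := congrArg (Ψ (↑v⁻¹ : R[X] ⧸ Ideal.span {p})) h0
      rw [map_zero, ← Module.End.mul_apply, ← map_mul, ← hv, Units.inv_mul, map_one,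
        Module.End.one_apply] at h3
      exact h3
    rw [map_sub, map_one, LinearMap.sub_apply, Module.End.one_apply, sub_eq_zero] at h2
    exact h2.symm
  let P := ↥(LinearMap.range E)
  let j : P →ₗ[R] M := b ∘ₗ (LinearMap.range E).subtype
  let r : M →ₗ[R] P := E.rangeRestrict ∘ₗ Ψ u ∘ₗ a
  have hP : ∀ q : P, E q.1 = q.1 := fun ⟨q, z, hz⟩ => by
    show E q = q
    rw [← hz, ← Module.End.mul_apply, hE.eq]
  have hrj : ∀ q, r (j q) = q := fun q => Subtype.ext <| by
    show E (Ψ u (φ q.1)) = q.1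
    rw [← ht, ← Module.End.mul_apply, ← Module.End.mul_apply, ← map_mul, ← map_mul,
      show e * u * t = e by rw [mul_assoc, mul_comm u, heu], hP q]
  have hP2 : Module.FinitePresentation R P := by
    refine Module.finitePresentation_of_surjective E.rangeRestrict E.surjective_rangeRestrict ?_
    have : LinearMap.ker E.rangeRestrict = LinearMap.range (Ψ (1 - e)) := by
      ext z
      rw [LinearMap.ker_rangeRestrict, LinearMap.mem_ker, map_sub, map_one]
      refine ⟨fun h => ⟨z, by rw [LinearMap.sub_apply, show Ψ e z = 0 from h, sub_zero]; rfl⟩, ?_⟩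
      rintro ⟨w, rfl⟩
      rw [LinearMap.sub_apply, Module.End.one_apply, map_sub, show Ψ e w = E w from rfl,
        ← Module.End.mul_apply, hE.eq, sub_self]
    rw [this, LinearMap.range_eq_map]
    exact (Module.Finite.fg_top (R := R) (M := Q)).map _
  haveI := hP2
  refine ⟨LinearMap.range j, LinearMap.ker r, ?_, ?_, ⟨⟨a x, a x, hax⟩, hx⟩⟩
  · refine IsCompl.of_eq ((Submodule.eq_bot_iff _).2 ?_) (eq_top_iff.2 fun m _ => ?_)
    · rintro _ ⟨⟨q, rfl⟩, hq⟩
      rw [SetLike.mem_coe, LinearMap.mem_ker, hrj] at hq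
      rw [hq, map_zero]
    · rw [← add_sub_cancel (j (r m)) m]
      exact Submodule.add_mem_sup ⟨_, rfl⟩ (by rw [LinearMap.mem_ker, map_sub, hrj, sub_self])
  · exact Module.finitePresentation_of_surjective j.rangeRestrict j.surjective_rangeRestrict
      (by
        rw [LinearMap.ker_rangeRestrict,
          LinearMap.ker_eq_bot.2 (Function.LeftInverse.injective hrj)]
        exact Submodule.fg_bot)

/-- The decomposition into finitely presented submodules. -/
theorem exists_fp_decomposition (hML : CAlg.IsMittagLeffler R M) (hc : CAlg.IsCountablyGenerated R M) :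
    ∃ N : ℕ → Submodule R M, iSupIndep N ∧ ⨆ n, N n = ⊤ ∧ ∀ n, Module.FinitePresentation R (N n) := by
  obtain ⟨s, hs, hstop⟩ := id hc
  obtain ⟨x, hx⟩ := (hs.insert 0).exists_eq_range (Set.insert_nonempty 0 s)
  have hstep : ∀ (Z : {Z : Submodule R M × Submodule R M // IsCompl Z.1 Z.2}) (m : M),
      ∃ (N : Submodule R M) (Z' : {Z : Submodule R M × Submodule R M // IsCompl Z.1 Z.2}),
        Module.FinitePresentation R N ∧ N ≤ Z.1.2 ∧ Z'.1.1 = Z.1.1 ⊔ N ∧ Z'.1.2 ≤ Z.1.2 ∧ m ∈ Z'.1.1 := by
    rintro ⟨⟨A, K⟩, hAK⟩ m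
    let π := Submodule.linearProjOfIsCompl K A hAK.symm
    have hπ : π ∘ₗ K.subtype = LinearMap.id :=
      LinearMap.ext fun z => Submodule.linearProjOfIsCompl_apply_left hAK.symm z
    have hMLK : CAlg.IsMittagLeffler R K := isML_of_retract K.subtype π hπ hML
    have hcK : CAlg.IsCountablyGenerated R K := ⟨π '' s, hs.image _, by
      rw [← Submodule.map_span, hstop, Submodule.map_top, LinearMap.range_eq_top]
      exact fun z => ⟨z.1, LinearMap.congr_fun hπ z⟩⟩
    obtain ⟨N, K', hNK, hfp, hmem⟩ := exists_fp_summand hMLK hcK (π m)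
    haveI := hfp
    let N' := N.map K.subtype
    let K'' := K'.map K.subtype
    have hN'K : N' ⊔ K'' = K := by
      rw [← Submodule.map_sup, hNK.sup_eq_top, Submodule.map_top, Submodule.range_subtype]
    have hdisj : Disjoint N' K'' := disjoint_iff.2 (by rw [← Submodule.map_inf _ K.injective_subtype, hNK.inf_eq_bot, Submodule.map_bot])
    have hcompl : IsCompl (A ⊔ N') K'' := by
      refine ⟨?_, codisjoint_iff.2 ?_⟩
      · refine Disjoint.disjoint_sup_left_of_disjoint_sup_right hdisj ?_
        rw [hN'K]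
        exact hAK.disjoint
      · rw [sup_assoc, hN'K, hAK.sup_eq_top]
    refine ⟨N', ⟨(A ⊔ N', K''), hcompl⟩,
      Module.FinitePresentation.of_equiv (Submodule.equivMapOfInjective _ K.injective_subtype N),
      le_sup_left.trans hN'K.le, rfl, le_sup_right.trans hN'K.le, ?_⟩
    rw [← sub_add_cancel m (π m : M)]
    refine Submodule.add_mem_sup ?_ ⟨π m, hmem, rfl⟩
    have h := (Submodule.linearProjOfIsCompl_apply_eq_zero_iff hAK.symm (x := m - (π m : M))).1
    refine h ?_
    show π (m - (π m : M)) = 0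
    rw [map_sub, show π (π m : M) = π m from Submodule.linearProjOfIsCompl_apply_left hAK.symm _, sub_self]
  choose N next hfp hNle hA hK hm using hstep
  let Z : ℕ → {Z : Submodule R M × Submodule R M // IsCompl Z.1 Z.2} := fun n =>
    Nat.rec ⟨(⊥, ⊤), isCompl_bot_top⟩ (fun k Z => next Z (x k)) n
  let L : ℕ → Submodule R M := fun n => N (Z n) (x n)
  have hlow : ∀ n, ∀ i < n, L i ≤ (Z n).1.1 := by
    intro n
    induction n with
    | zero => intro i hi; exact absurd hi (Nat.not_lt_zero i)
    | succ n ih =>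
      intro i hi
      refine le_trans ?_ (hA (Z n) (x n)).ge
      rcases Nat.lt_succ_iff_lt_or_eq.1 hi with h | rfl
      · exact le_sup_of_le_left (ih i h)
      · exact le_sup_right
  have hanti : Antitone fun n => (Z n).1.2 := antitone_nat_of_succ_le fun n => hK (Z n) (x n)
  have hsum : ∀ n, (Z n).1.1 ≤ ⨆ i, L i := by
    intro n
    induction n with
    | zero => exact bot_le
    | succ n ih => exact (hA (Z n) (x n)).le.trans (sup_le ih (le_iSup L n))
  refine ⟨L, fun n => ?_, ?_, fun n => hfp _ _⟩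
  · have h1 : (⨆ (i) (_ : i ≠ n), L i) ≤ (Z n).1.1 ⊔ (Z (n + 1)).1.2 := iSup₂_le fun i hi => by
      rcases Nat.lt_or_gt_of_ne hi with h | h
      · exact le_sup_of_le_left (hlow n i h)
      · exact le_sup_of_le_right ((hNle (Z i) (x i)).trans (hanti h))
    refine Disjoint.mono_right h1 ?_
    refine Disjoint.disjoint_sup_right_of_disjoint_sup_left ((Z n).2.symm.disjoint.mono_left (hNle _ _)) ?_
    rw [sup_comm, ← hA (Z n) (x n)]
    exact (next (Z n) (x n)).2.disjoint
  · rw [eq_top_iff, ← hstop, Submodule.span_le]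
    intro m hms
    obtain ⟨k, rfl⟩ : m ∈ Set.range x := hx ▸ Set.mem_insert_of_mem 0 hms
    exact hsum (k + 1) (hm (Z k) (x k))

end Groth.Agent.MLMod
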