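import Groth.Agent.MLMod.ProjLift
import Groth.Agent.LocalCrit.Basic
import Mathlib.RingTheory.AdicCompletion.Basic

/-!
Lifting maps out of a flat module which is projective modulo an ideal.
-/

universe u
open TensorProduct

namespace Groth.Agent.MLMod

variable {R : Type u} [CommRing R] (I : Ideal R) {M : Type u} [AddCommGroup M] [Module R M]
  [Module.Projective (R ⧸ I) (M ⧸ (I • ⊤ : Submodule R M))]

/-- The square zero step: extensions of `M` by modules killed by `I` split. -/
theorem exists_section_of_mulMap_injective (hmul : Function.Injective (LocalCrit.mulMap I M)) {E : Type u}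
    [AddCommGroup E] [Module R E] (p : E →ₗ[R] M)
    (hp : Function.Surjective p) (h : I • LinearMap.ker p = ⊥) :
    ∃ s : M →ₗ[R] E, ∀ m, p (s m) = m := by
  obtain ⟨sb, hsb⟩ := exists_section_mapQ I p hp
  have huniq : ∀ e ∈ (I • ⊤ : Submodule R E), p e = 0 → e = 0 := by
    intro e he hpe
    have h1 := LocalCrit.mem_smul_of_map_mem_of_mulMap_injective (LinearMap.ker p).subtype
      Subtype.val_injective p hp (LinearMap.exact_subtype_ker_map p) I hmul
      (x := ⟨e, hpe⟩) he
    have h2 := Submodule.mem_map_of_mem (f := (LinearMap.ker p).subtype) h1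
    rw [Submodule.map_smul'', Submodule.map_top, Submodule.range_subtype, h, Submodule.mem_bot] at h2
    exact h2
  have hex : ∀ m, ∃ e, p e = m ∧ Submodule.Quotient.mk e = sb (Submodule.Quotient.mk m) := by
    intro m
    obtain ⟨e0, he0⟩ := Submodule.Quotient.mk_surjective _ (sb (Submodule.Quotient.mk m))
    have h1 : Submodule.Quotient.mk (p e0) = (Submodule.Quotient.mk m : M ⧸ (I • ⊤ : Submodule R M)) := by
      rw [← hsb (Submodule.Quotient.mk m), ← he0]
      rfl
    have h2 : m - p e0 ∈ Submodule.map p (I • ⊤) := by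
      rw [Submodule.map_smul'', Submodule.map_top, LinearMap.range_eq_top.2 hp, ← Submodule.Quotient.eq, h1]
    obtain ⟨d, hd, hpd⟩ := h2
    exact ⟨e0 + d, by rw [map_add, hpd, add_sub_cancel],
      by rw [← he0, Submodule.Quotient.mk_add, (Submodule.Quotient.mk_eq_zero _).2 hd, add_zero]⟩
  choose s hs1 hs2 using hex
  have heq : ∀ m e, p e = m → Submodule.Quotient.mk e = sb (Submodule.Quotient.mk m) → e = s m :=
    fun m e he1 he2 => sub_eq_zero.1 <| huniq _ ((Submodule.Quotient.eq _).1 (he2.trans (hs2 m).symm))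
      (by rw [map_sub, he1, hs1, sub_self])
  refine ⟨{ toFun := s, map_add' := fun a b => ?_, map_smul' := fun r a => ?_ }, hs1⟩
  · refine (heq _ _ ?_ ?_).symm
    · rw [map_add, hs1, hs1]
    · rw [Submodule.Quotient.mk_add, hs2, hs2, ← map_add, Submodule.Quotient.mk_add]
  · refine (heq _ _ ?_ ?_).symm
    · rw [map_smul, hs1, RingHom.id_apply]
    · rw [RingHom.id_apply, Submodule.Quotient.mk_smul, hs2, ← map_smul, Submodule.Quotient.mk_smul]

theorem exists_lift_of_mulMap_injective (hmul : Function.Injective (LocalCrit.mulMap I M)) {X Y : Type u} [AddCommGroup X] [Module R X] [AddCommGroup Y]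
    [Module R Y] (g : X →ₗ[R] Y) (hg : Function.Surjective g) (h : I • LinearMap.ker g = ⊥)
    (f : M →ₗ[R] Y) : ∃ f' : M →ₗ[R] X, ∀ m, g (f' m) = f m := by
  let E : Submodule R (M × X) :=
    LinearMap.ker (f ∘ₗ LinearMap.fst R M X - g ∘ₗ LinearMap.snd R M X)
  have hE : ∀ z : M × X, z ∈ E ↔ f z.1 = g z.2 := fun z => by simp [E, sub_eq_zero]
  let p : E →ₗ[R] M := LinearMap.fst R M X ∘ₗ E.subtype
  have hp : Function.Surjective p := fun m => by
    obtain ⟨x, hx⟩ := hg (f m)
    exact ⟨⟨(m, x), (hE _).2 hx.symm⟩, rfl⟩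
  have hk : I • LinearMap.ker p = ⊥ := by
    refine le_bot_iff.1 (Submodule.smul_le.2 fun a ha z hz => ?_)
    rw [Submodule.mem_bot]
    have h0 : z.1.1 = 0 := hz
    have h1 : a • z.1.2 ∈ (⊥ : Submodule R X) := by
      rw [← h]
      refine Submodule.smul_mem_smul ha ?_
      rw [LinearMap.mem_ker, ← (hE _).1 z.2, h0, map_zero]
    ext
    · show a • z.1.1 = 0
      rw [h0, smul_zero]
    · exact (Submodule.mem_bot R).1 h1
  obtain ⟨s, hs⟩ := exists_section_of_mulMap_injective I hmul p hp hk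
  refine ⟨LinearMap.snd R M X ∘ₗ E.subtype ∘ₗ s, fun m => ?_⟩
  show g (s m).1.2 = f m
  rw [← (hE _).1 (s m).2]
  exact congrArg f (hs m)

variable [Module.Flat R M]

/-- Maps out of `M` lift along surjections with kernel killed by `I`. -/
theorem exists_lift_of_smul_ker_eq_bot {X Y : Type u} [AddCommGroup X] [Module R X] [AddCommGroup Y]
    [Module R Y] (g : X →ₗ[R] Y) (hg : Function.Surjective g) (h : I • LinearMap.ker g = ⊥)
    (f : M →ₗ[R] Y) : ∃ f' : M →ₗ[R] X, ∀ m, g (f' m) = f m :=
  exists_lift_of_mulMap_injective I (LocalCrit.mulMap_injective I) g hg h f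

/-- Maps out of `M` lift along surjections with kernel killed by a power of `I`. -/
theorem exists_lift_of_pow_smul_ker_eq_bot (k : ℕ) {X Y : Type u} [AddCommGroup X] [Module R X]
    [AddCommGroup Y] [Module R Y] (g : X →ₗ[R] Y) (hg : Function.Surjective g)
    (h : I ^ k • LinearMap.ker g = ⊥) (f : M →ₗ[R] Y) : ∃ f' : M →ₗ[R] X, ∀ m, g (f' m) = f m := by
  induction k generalizing X Y with
  | zero =>
    rw [pow_zero, Ideal.one_eq_top, Submodule.top_smul] at h
    refine ⟨(LinearEquiv.ofBijective g ⟨LinearMap.ker_eq_bot.1 h, hg⟩).symm.toLinearMap ∘ₗ f,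
      fun m => LinearEquiv.apply_symm_apply (LinearEquiv.ofBijective g ⟨LinearMap.ker_eq_bot.1 h, hg⟩) _⟩
  | succ k ih =>
    let W : Submodule R X := I • LinearMap.ker g
    let g' : (X ⧸ W) →ₗ[R] Y := W.liftQ g Submodule.smul_le_right
    have hg' : Function.Surjective g' := fun y => by
      obtain ⟨x, rfl⟩ := hg y
      exact ⟨Submodule.Quotient.mk x, rfl⟩
    have hk : I • LinearMap.ker g' = ⊥ := by
      rw [show LinearMap.ker g' = (LinearMap.ker g).map W.mkQ from Submodule.ker_liftQ _ _ _,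
        ← Submodule.map_smul'', ← LinearMap.le_ker_iff_map, Submodule.ker_mkQ]
    obtain ⟨f1, hf1⟩ := exists_lift_of_smul_ker_eq_bot I g' hg' hk f
    obtain ⟨f', hf'⟩ := ih W.mkQ (Submodule.mkQ_surjective W) (by
      rw [Submodule.ker_mkQ, ← Submodule.mul_smul, ← pow_succ, h]) f1
    exact ⟨f', fun m => by rw [← hf1 m, ← hf' m]; rfl⟩

variable {F : Type u} [AddCommGroup F] [Module R F]

theorem exists_compatible_sections (π : F →ₗ[R] M) (hπ : Function.Surjective π) :
    ∃ s : ∀ k, M →ₗ[R] F ⧸ (I ^ k • ⊤ : Submodule R F),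
      (∀ k m, Submodule.mapQ (I ^ k • ⊤ : Submodule R F) (I ^ k • ⊤ : Submodule R M) π
          (map_mem_smul_top (I ^ k) π) (s k m) = Submodule.Quotient.mk m) ∧
      (∀ k m, AdicCompletion.transitionMap I F (Nat.le_succ k) (s (k + 1) m) = s k m) := by
  let P : ℕ → Type u := fun k => {s : M →ₗ[R] F ⧸ (I ^ k • ⊤ : Submodule R F) //
    ∀ m, Submodule.mapQ (I ^ k • ⊤ : Submodule R F) (I ^ k • ⊤ : Submodule R M) π
      (map_mem_smul_top (I ^ k) π) (s m) = Submodule.Quotient.mk m}
  have h0 : Nonempty (P 0) := ⟨⟨0, fun m => by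
    rw [LinearMap.zero_apply, map_zero, eq_comm, Submodule.Quotient.mk_eq_zero]
    simp⟩⟩
  have hstep : ∀ k (s : P k), ∃ s' : P (k + 1),
      ∀ m, AdicCompletion.transitionMap I F (Nat.le_succ k) (s'.1 m) = s.1 m := by
    rintro k ⟨s, hs⟩
    let g : (F ⧸ (I ^ (k + 1) • ⊤ : Submodule R F)) →ₗ[R]
        (M ⧸ (I ^ (k + 1) • ⊤ : Submodule R M)) × (F ⧸ (I ^ k • ⊤ : Submodule R F)) :=
      (Submodule.mapQ _ _ π (map_mem_smul_top (I ^ (k + 1)) π)).prod
        (AdicCompletion.transitionMap I F (Nat.le_succ k))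
    let f : M →ₗ[R] (M ⧸ (I ^ (k + 1) • ⊤ : Submodule R M)) × (F ⧸ (I ^ k • ⊤ : Submodule R F)) :=
      (Submodule.mkQ _).prod s
    have hf : ∀ m, f m ∈ LinearMap.range g := by
      intro m
      obtain ⟨y, hy⟩ := Submodule.Quotient.mk_surjective _ (s m)
      have h1 := hs m
      rw [← hy] at h1
      have h2 : m - π y ∈ Submodule.map π (I ^ k • ⊤) := by
        rw [Submodule.map_smul'', Submodule.map_top, LinearMap.range_eq_top.2 hπ, ← Submodule.Quotient.eq]
        exact h1.symm
      obtain ⟨d, hd, hπd⟩ := h2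
      refine ⟨Submodule.Quotient.mk (y + d), Prod.ext ?_ ?_⟩
      · show Submodule.Quotient.mk (π (y + d)) = Submodule.Quotient.mk m
        rw [map_add, hπd, add_sub_cancel]
      · show Submodule.Quotient.mk (y + d) = s m
        rw [← hy, Submodule.Quotient.mk_add, (Submodule.Quotient.mk_eq_zero _).2 hd, add_zero]
    have hk : I ^ (k + 1) • LinearMap.ker g.rangeRestrict = ⊥ := by
      refine le_bot_iff.1 (Submodule.smul_le.2 fun a ha z _ => ?_)
      obtain ⟨z, rfl⟩ := Submodule.Quotient.mk_surjective _ z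
      rw [Submodule.mem_bot, ← Submodule.Quotient.mk_smul, Submodule.Quotient.mk_eq_zero]
      exact Submodule.smul_mem_smul ha trivial
    obtain ⟨s', hs'⟩ := exists_lift_of_pow_smul_ker_eq_bot I (k + 1) g.rangeRestrict
      g.surjective_rangeRestrict hk (f.codRestrict _ hf)
    exact ⟨⟨s', fun m => congrArg Prod.fst (congrArg Subtype.val (hs' m))⟩,
      fun m => congrArg Prod.snd (congrArg Subtype.val (hs' m))⟩
  choose next hnext using hstep
  let s : ∀ k, P k := fun k => Nat.rec h0.some (fun k s => next k s) k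
  exact ⟨fun k => (s k).1, fun k => (s k).2, fun k => hnext k (s k)⟩

theorem exists_completion_section' (π : F →ₗ[R] M) (hπ : Function.Surjective π) :
    ∃ s : AdicCompletion I M →ₗ[R] AdicCompletion I F,
      ∀ x k, Submodule.mapQ (I ^ k • ⊤ : Submodule R F) (I ^ k • ⊤ : Submodule R M) π
        (map_mem_smul_top (I ^ k) π) ((s x).val k) = x.val k ∧ (x.val k = 0 → (s x).val k = 0) := by
  obtain ⟨s, hs, hcompat⟩ := exists_compatible_sections I π hπ
  have hle : ∀ k, (I ^ k • ⊤ : Submodule R M) ≤ LinearMap.ker (s k) := fun k =>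
    Submodule.smul_le.2 fun a ha m _ => by
      rw [LinearMap.mem_ker, map_smul]
      obtain ⟨y, hy⟩ := Submodule.Quotient.mk_surjective _ (s k m)
      rw [← hy, ← Submodule.Quotient.mk_smul, Submodule.Quotient.mk_eq_zero]
      exact Submodule.smul_mem_smul ha trivial
  have htrans : ∀ {m n : ℕ} (hmn : m ≤ n) (x : M),
      AdicCompletion.transitionMap I F hmn (s n x) = s m x := by
    intro m n hmn
    induction n, hmn using Nat.le_induction with
    | base =>
      intro x
      obtain ⟨y, hy⟩ := Submodule.Quotient.mk_surjective _ (s m x)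
      rw [← hy]
      rfl
    | succ n hn ih =>
      intro x
      rw [← ih x, ← hcompat n x]
      obtain ⟨y, hy⟩ := Submodule.Quotient.mk_surjective _ (s (n + 1) x)
      rw [← hy]
      rfl
  let t : ∀ k, AdicCompletion I M →ₗ[R] F ⧸ (I ^ k • ⊤ : Submodule R F) := fun k =>
    Submodule.liftQ _ (s k) (hle k) ∘ₗ AdicCompletion.eval I M k
  refine ⟨AdicCompletion.lift I t fun {m n} hmn => ?_, fun x k => ?_⟩
  · refine LinearMap.ext fun x => ?_
    obtain ⟨z, hz⟩ := Submodule.Quotient.mk_surjective _ (x.val n)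
    show AdicCompletion.transitionMap I F hmn (Submodule.liftQ _ (s n) (hle n) (x.val n)) =
      Submodule.liftQ _ (s m) (hle m) (x.val m)
    rw [← x.2 hmn, ← hz]
    exact htrans hmn z
  · obtain ⟨z, hz⟩ := Submodule.Quotient.mk_surjective _ (x.val k)
    refine ⟨?_, fun h0 => ?_⟩
    swap
    · show Submodule.liftQ _ (s k) (hle k) (x.val k) = 0
      rw [h0, map_zero]
    show Submodule.mapQ _ _ π _ (Submodule.liftQ _ (s k) (hle k) (x.val k)) = x.val k
    rw [← hz]
    exact hs k z

theorem exists_completion_section (π : F →ₗ[R] M) (hπ : Function.Surjective π) :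
    ∃ s : AdicCompletion I M →ₗ[R] AdicCompletion I F,
      ∀ x k, Submodule.mapQ (I ^ k • ⊤ : Submodule R F) (I ^ k • ⊤ : Submodule R M) π
        (map_mem_smul_top (I ^ k) π) ((s x).val k) = x.val k :=
  (exists_completion_section' I π hπ).imp fun _ h x k => (h x k).1

end Groth.Agent.MLMod
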