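import Mathlib

/-!
Loci where maps of finite modules are surjective or split injective on fibres.
-/

set_option autoImplicit false
universe u
open TensorProduct

namespace Groth.Agent.MLMod.Locus

variable {R : Type u} [CommRing R] {M N : Type u} [AddCommGroup M] [Module R M] [AddCommGroup N] [Module R N]

theorem map_mk (S : Submonoid R) (φ : M →ₗ[R] N) (m : M) (s : S) :
    LocalizedModule.map S φ (LocalizedModule.mk m s) = LocalizedModule.mk (φ m) s :=
  IsLocalizedModule.map_LocalizedModules S φ m s

theorem lTensor_surjective_iff [Module.Finite R N] (φ : M →ₗ[R] N) (p : PrimeSpectrum R) :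
    Function.Surjective (φ.lTensor p.asIdeal.ResidueField) ↔
      p ∉ Module.support R (N ⧸ LinearMap.range φ) := by
  rw [Module.mem_support_iff_nontrivial_residueField_tensorProduct, not_nontrivial_iff_subsingleton]
  constructor
  · intro h
    refine subsingleton_of_forall_eq 0 fun z => ?_
    obtain ⟨y, rfl⟩ := LinearMap.lTensor_surjective _ (LinearMap.range φ).mkQ_surjective z
    exact ((lTensor_exact _ (LinearMap.exact_map_mkQ_range φ) (Submodule.mkQ_surjective _)) y).2 (h y)
  · intro h z
    exact ((lTensor_exact _ (LinearMap.exact_map_mkQ_range φ) (Submodule.mkQ_surjective _)) z).1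
      (Subsingleton.elim _ _)

theorem localized_surjective_iff (φ : M →ₗ[R] N) (p : PrimeSpectrum R) :
    Function.Surjective (LocalizedModule.map p.asIdeal.primeCompl φ) ↔
      p ∉ Module.support R (N ⧸ LinearMap.range φ) := by
  rw [LinearMap.localizedMap_surjective_iff_subsingleton_localized_coker, Module.notMem_support_iff]

theorem exists_pow_smul_eq_zero {C : Type u} [AddCommGroup C] [Module R C] [Module.Finite R C] (f : R)
    (h : ∀ p : PrimeSpectrum R, p ∈ PrimeSpectrum.basicOpen f → p ∉ Module.support R C) :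
    ∃ n : ℕ, ∀ c : C, f ^ n • c = 0 := by
  have hle : PrimeSpectrum.zeroLocus (Module.annihilator R C : Set R) ⊆ PrimeSpectrum.zeroLocus {f} := by
    intro p hp
    rw [← Module.support_eq_zeroLocus] at hp
    by_contra hf
    exact h p (by simpa [PrimeSpectrum.mem_zeroLocus] using hf) hp
  have hrad : f ∈ (Module.annihilator R C).radical :=
    PrimeSpectrum.vanishingIdeal_zeroLocus_eq_radical (Module.annihilator R C) ▸ (PrimeSpectrum.mem_vanishingIdeal _ _).2 (fun p hp => Set.singleton_subset_iff.1 (hle hp))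
  obtain ⟨n, hn⟩ := hrad
  exact ⟨n, fun c => Module.mem_annihilator.1 hn c⟩

theorem isOpen_notMem_support {C : Type u} [AddCommGroup C] [Module R C] [Module.Finite R C] :
    IsOpen {p : PrimeSpectrum R | p ∉ Module.support R C} := by
  have h : IsClosed (Module.support R C) := by
    rw [Module.support_eq_zeroLocus]
    exact PrimeSpectrum.isClosed_zeroLocus _
  exact h.isOpen_compl

theorem localizedMap_surjective_of_smul_mem (S : Submonoid R) (s : S) (φ : M →ₗ[R] N)
    (h : ∀ n : N, (s : R) • n ∈ LinearMap.range φ) : Function.Surjective (LocalizedModule.map S φ) := by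
  intro z
  induction z using LocalizedModule.induction_on with
  | _ n t =>
    obtain ⟨m, hm⟩ := h n
    refine ⟨LocalizedModule.mk m (s * t), ?_⟩
    rw [map_mk, hm]
    exact LocalizedModule.mk_cancel_common_left s t n

/-- A module which is a retract up to a unit of a finite projective one localises to a finite projective. -/
theorem finite_projective_of_retract {A B : Type u} [AddCommGroup A] [Module R A] [AddCommGroup B] [Module R B]
    [Module.Finite R A] [Module.Projective R A] (S : Submonoid R) (s : S) (i : B →ₗ[R] A) (q : A →ₗ[R] B)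
    (h : ∀ b, q (i b) = (s : R) • b) :
    Module.Finite (Localization S) (LocalizedModule S B) ∧ Module.Projective (Localization S) (LocalizedModule S B) := by
  let q' : LocalizedModule S A →ₗ[Localization S] LocalizedModule S B :=
    (Localization.mk 1 s : Localization S) • LocalizedModule.map S q
  have hid : q' ∘ₗ LocalizedModule.map S i = LinearMap.id := by
    refine LinearMap.ext fun z => ?_
    induction z using LocalizedModule.induction_on with
    | _ b t =>
      show (Localization.mk 1 s : Localization S) • LocalizedModule.map S q (LocalizedModule.map S i (LocalizedModule.mk b t)) = _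
      rw [map_mk, map_mk, h, LocalizedModule.mk_smul_mk, one_smul]
      exact LocalizedModule.mk_cancel_common_left s t b
  exact ⟨Module.Finite.of_surjective q' fun z => ⟨_, LinearMap.congr_fun hid z⟩,
    Module.Projective.of_split _ _ hid⟩

/-- The map `r ↦ r ∘ φ` into the endomorphisms of the source. -/
noncomputable def precomp (φ : M →ₗ[R] N) : (N →ₗ[R] M) →ₗ[R] Module.End R M :=
  LinearMap.lcomp R M φ

theorem exists_lift_residueField [Module.Finite R N] [Module.Projective R N] (φ : M →ₗ[R] N)
    (p : PrimeSpectrum R) (hinj : Function.Injective (φ.lTensor p.asIdeal.ResidueField)) :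
    ∃ (r : N →ₗ[R] M) (s : R), s ∉ p.asIdeal ∧
      ∀ m, (1 : p.asIdeal.ResidueField) ⊗ₜ[R] (r (φ m)) = s • ((1 : p.asIdeal.ResidueField) ⊗ₜ[R] m) := by
  classical
  classical
  set κ := p.asIdeal.ResidueField
  obtain ⟨L, hL⟩ := (φ.baseChange κ).exists_leftInverse_of_injective (LinearMap.ker_eq_bot.2 (by
    intro a b hab
    exact hinj hab))
  obtain ⟨g, hg⟩ := Module.Finite.fg_top (R := R) (M := N)
  let θ : M →ₗ[R] κ ⊗[R] M := TensorProduct.mk R κ M 1
  have hclear : ∀ z : κ ⊗[R] M, ∃ s : R, s ∉ p.asIdeal ∧ s • z ∈ LinearMap.range θ := by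
    intro z
    induction z using TensorProduct.induction_on with
    | zero => exact ⟨1, p.isPrime.one_notMem, by simp⟩
    | tmul c m =>
      obtain ⟨b, hb⟩ : ∃ b : R, ∃ s : R, s ∉ p.asIdeal ∧ s • c = algebraMap R κ b := by
        obtain ⟨⟨x, s⟩, hxs⟩ := IsLocalization.surj (nonZeroDivisors (R ⧸ p.asIdeal)) c
        obtain ⟨x, rfl⟩ := Ideal.Quotient.mk_surjective x
        obtain ⟨s₀, hs₀⟩ := Ideal.Quotient.mk_surjective (s : R ⧸ p.asIdeal)
        refine ⟨x, s₀, fun hmem => ?_, ?_⟩
        · exact nonZeroDivisors.coe_ne_zero s (by rw [← hs₀, Ideal.Quotient.eq_zero_iff_mem.2 hmem])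
        · rw [Algebra.smul_def, mul_comm, IsScalarTower.algebraMap_apply R (R ⧸ p.asIdeal) κ,
            IsScalarTower.algebraMap_apply R (R ⧸ p.asIdeal) κ x]
          simp only [Ideal.Quotient.algebraMap_eq, hs₀]
          exact hxs
      obtain ⟨s, hs, hsc⟩ := hb
      refine ⟨s, hs, b • m, ?_⟩
      show (1 : κ) ⊗ₜ[R] (b • m) = s • (c ⊗ₜ[R] m)
      rw [smul_tmul', hsc, tmul_smul, smul_tmul', Algebra.smul_def, mul_one]
    | add x y hx hy =>
      obtain ⟨s, hs, hx⟩ := hx
      obtain ⟨t, ht, hy⟩ := hy
      refine ⟨s * t, fun h => (p.isPrime.mem_or_mem h).elim hs ht, ?_⟩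
      rw [smul_add]
      exact add_mem (by rw [mul_comm, mul_smul]; exact Submodule.smul_mem _ _ hx)
        (by rw [mul_smul]; exact Submodule.smul_mem _ _ hy)
  choose s hs hsmem using fun x : N => hclear (L ((1 : κ) ⊗ₜ[R] x))
  let t := ∏ x ∈ g, s x
  have ht : t ∉ p.asIdeal := fun h => by
    obtain ⟨x, -, hx⟩ := p.isPrime.prod_mem_iff.1 h
    exact hs x hx
  let ψ : N →ₗ[R] κ ⊗[R] M := t • (L.restrictScalars R ∘ₗ TensorProduct.mk R κ N 1)
  have hψ : ∀ x, ψ x ∈ LinearMap.range θ := by
    intro x
    have : (⊤ : Submodule R N) ≤ (LinearMap.range θ).comap ψ := by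
      rw [← hg, Submodule.span_le]
      intro y hy
      show t • L ((1 : κ) ⊗ₜ[R] y) ∈ LinearMap.range θ
      rw [show t = (∏ x ∈ g.erase y, s x) * s y from (Finset.prod_erase_mul _ _ hy).symm, mul_smul]
      exact Submodule.smul_mem _ _ (hsmem y)
    exact this trivial
  obtain ⟨r, hr⟩ := Module.projective_lifting_property θ.rangeRestrict (ψ.codRestrict _ hψ)
    θ.surjective_rangeRestrict
  refine ⟨r, t, ht, fun m => ?_⟩
  have h1 : θ (r (φ m)) = ψ (φ m) := congrArg Subtype.val (LinearMap.congr_fun hr (φ m))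
  refine h1.trans ?_
  show t • L ((1 : κ) ⊗ₜ[R] φ m) = _
  have h2 := LinearMap.congr_fun hL ((1 : κ) ⊗ₜ[R] m)
  rw [LinearMap.comp_apply, LinearMap.baseChange_tmul, LinearMap.id_apply] at h2
  rw [h2]

theorem end_mem_smul_top [Module.Finite R M] [Module.Projective R M] (I : Ideal R) (h : Module.End R M)
    (hh : ∀ m, h m ∈ I • (⊤ : Submodule R M)) : h ∈ I • (⊤ : Submodule R (Module.End R M)) := by
  classical
  obtain ⟨n, f, hf⟩ := Module.Finite.exists_fin' R M
  obtain ⟨σ, hσ⟩ := Module.projective_lifting_property f LinearMap.id hf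
  let c : Fin n → (M →ₗ[R] R) := fun i => LinearMap.proj i ∘ₗ σ
  have heq : h = ∑ i, (c i).smulRight (h (f (Pi.single i 1))) := by
    refine LinearMap.ext fun m => ?_
    simp only [LinearMap.sum_apply, LinearMap.smulRight_apply, ← map_smul, ← map_sum, c,
      LinearMap.comp_apply, LinearMap.proj_apply]
    rw [← pi_eq_sum_univ' (σ m), show f (σ m) = m from LinearMap.congr_fun hσ m]
  rw [heq]
  refine Submodule.sum_mem _ fun i _ => ?_
  have h1 := Submodule.mem_map_of_mem (f := LinearMap.smulRightₗ (c i)) (hh (f (Pi.single i 1)))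
  rw [Submodule.map_smul''] at h1
  exact Submodule.smul_mono le_rfl le_top h1

theorem finite_end [Module.Finite R M] [Module.Projective R M] : Module.Finite R (Module.End R M) := by
  classical
  obtain ⟨n, f, hf⟩ := Module.Finite.exists_fin' R M
  obtain ⟨σ, hσ⟩ := Module.projective_lifting_property f LinearMap.id hf
  let G : (Fin n → M) →ₗ[R] Module.End R M :=
    ∑ i, LinearMap.smulRightₗ (LinearMap.proj i ∘ₗ σ) ∘ₗ LinearMap.proj i
  refine Module.Finite.of_surjective G fun h => ⟨fun i => h (f (Pi.single i 1)), LinearMap.ext fun m => ?_⟩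
  simp only [G, LinearMap.sum_apply, LinearMap.comp_apply, LinearMap.proj_apply,
    LinearMap.smulRightₗ_apply, LinearMap.smulRight_apply, ← map_smul, ← map_sum]
  rw [← pi_eq_sum_univ' (σ m), show f (σ m) = m from LinearMap.congr_fun hσ m]

theorem lTensor_injective_iff [Module.Finite R M] [Module.Projective R M] [Module.Finite R N]
    [Module.Projective R N] (φ : M →ₗ[R] N) (p : PrimeSpectrum R) :
    Function.Injective (φ.lTensor p.asIdeal.ResidueField) ↔
      p ∉ Module.support R (Module.End R M ⧸ LinearMap.range (precomp φ)) := by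
  classical
  set κ := p.asIdeal.ResidueField
  constructor
  · intro hinj
    obtain ⟨r, s, hs, hr⟩ := exists_lift_residueField φ p hinj
    haveI := finite_end (R := R) (M := M)
    rw [← lTensor_surjective_iff]
    have hker : ∀ m, ∃ t : R, t ∉ p.asIdeal ∧ t • (r (φ m) - s • m) ∈ p.asIdeal • (⊤ : Submodule R M) := by
      intro m
      have h0 : (1 : Localization.AtPrime p.asIdeal) ⊗ₜ[R] (0 : M) = 0 := tmul_zero _ _
      have h1 : (1 : κ) ⊗ₜ[R] (r (φ m) - s • m) = 0 := by
        rw [tmul_sub, tmul_smul, hr, sub_self]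
      haveI : Module.Flat (R ⧸ p.asIdeal) κ := IsLocalization.flat κ (nonZeroDivisors (R ⧸ p.asIdeal))
      let e := TensorProduct.quotTensorEquivQuotSMul M p.asIdeal
      let v : (R ⧸ p.asIdeal) ⊗[R] M := (1 : R ⧸ p.asIdeal) ⊗ₜ[R] (r (φ m) - s • m)
      let a := AlgebraTensorModule.cancelBaseChange R (R ⧸ p.asIdeal) κ κ M
      have h2 : (1 : κ) ⊗ₜ[R ⧸ p.asIdeal] v = 0 := by
        apply a.injective
        rw [map_zero, AlgebraTensorModule.cancelBaseChange_tmul, one_smul, h1]
      haveI : IsLocalizedModule (nonZeroDivisors (R ⧸ p.asIdeal))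
          (TensorProduct.mk (R ⧸ p.asIdeal) κ ((R ⧸ p.asIdeal) ⊗[R] M) 1) :=
        (isLocalizedModule_iff_isBaseChange (nonZeroDivisors (R ⧸ p.asIdeal)) κ _).2
          (TensorProduct.isBaseChange _ _ _)
      obtain ⟨c, hc⟩ := (IsLocalizedModule.eq_zero_iff (nonZeroDivisors (R ⧸ p.asIdeal))
        (TensorProduct.mk (R ⧸ p.asIdeal) κ ((R ⧸ p.asIdeal) ⊗[R] M) 1)).1 h2
      obtain ⟨t, ht⟩ := Ideal.Quotient.mk_surjective (c : R ⧸ p.asIdeal)
      refine ⟨t, fun hmem => nonZeroDivisors.coe_ne_zero c
        (by rw [← ht, Ideal.Quotient.eq_zero_iff_mem.2 hmem]), ?_⟩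
      rw [← Submodule.Quotient.mk_eq_zero]
      have h3 := congrArg e hc
      rw [map_zero] at h3
      rw [← h3, Submonoid.smul_def, ← ht]
      simp [v, e, smul_tmul', Algebra.smul_def]
    obtain ⟨g, hg⟩ := Module.Finite.fg_top (R := R) (M := M)
    choose t ht htmem using hker
    let T := ∏ m ∈ g, t m
    have hT : T ∉ p.asIdeal := fun h => by
      obtain ⟨x, -, hx⟩ := p.isPrime.prod_mem_iff.1 h
      exact ht x hx
    have hmem : T • (precomp φ r - s • (1 : Module.End R M)) ∈
        p.asIdeal • (⊤ : Submodule R (Module.End R M)) := by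
      refine end_mem_smul_top _ _ fun m => ?_
      have : (⊤ : Submodule R M) ≤
          (p.asIdeal • (⊤ : Submodule R M)).comap (T • (precomp φ r - s • (1 : Module.End R M))) := by
        conv_lhs => rw [← hg]
        rw [Submodule.span_le]
        intro y hy
        show T • (r (φ y) - s • y) ∈ p.asIdeal • (⊤ : Submodule R M)
        rw [show T = (∏ m ∈ g.erase y, t m) * t y from (Finset.prod_erase_mul _ _ hy).symm, mul_smul]
        exact Submodule.smul_mem _ _ (htmem y)
      exact this trivial
    intro z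
    have hz : ∀ h : Module.End R M, (T * s) • ((1 : κ) ⊗ₜ[R] h) ∈
        LinearMap.range ((precomp φ).lTensor κ) := by
      intro h
      have h1 : (T * s) • h - precomp φ (T • (h ∘ₗ r)) ∈ p.asIdeal • (⊤ : Submodule R (Module.End R M)) := by
        have h2 := Submodule.mem_map_of_mem (f := LinearMap.mulLeft R h) (neg_mem hmem)
        rw [Submodule.map_smul''] at h2
        refine Submodule.smul_mono le_rfl (le_top : Submodule.map (LinearMap.mulLeft R h) ⊤ ≤ ⊤) ?_
        convert h2 using 1
        refine LinearMap.ext fun m => ?_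
        simp [precomp, mul_smul, smul_sub]
      have h2 : (1 : κ) ⊗ₜ[R] ((T * s) • h - precomp φ (T • (h ∘ₗ r))) = 0 := by
        generalize (T * s) • h - precomp φ (T • (h ∘ₗ r)) = w at h1
        induction h1 using Submodule.smul_induction_on' with
        | smul a ha x _ =>
          rw [tmul_smul, smul_tmul', Algebra.smul_def, Ideal.algebraMap_residueField_eq_zero.2 ha,
            zero_mul, zero_tmul]
        | add x _ y _ hx hy => rw [tmul_add, hx, hy, add_zero]
      rw [tmul_sub, sub_eq_zero, tmul_smul] at h2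
      exact ⟨(1 : κ) ⊗ₜ[R] (T • (h ∘ₗ r)), by rw [LinearMap.lTensor_tmul, ← h2]⟩
    have hunit : algebraMap R κ (T * s) ≠ 0 := fun h =>
      (p.isPrime.mem_or_mem (Ideal.algebraMap_residueField_eq_zero.1 h)).elim hT hs
    induction z using TensorProduct.induction_on with
    | zero => exact ⟨0, map_zero _⟩
    | tmul c h =>
      obtain ⟨w, hw⟩ := hz h
      refine ⟨(c / algebraMap R κ (T * s)) • w, ?_⟩
      have hlin : ∀ (d : κ) w, (precomp φ).lTensor κ (d • w) = d • (precomp φ).lTensor κ w :=
        fun d w => ((precomp φ).baseChange κ).map_smul d w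
      rw [hlin, hw, ← algebraMap_smul κ (T * s), smul_smul, div_mul_cancel₀ _ hunit, smul_tmul',
        smul_eq_mul, mul_one]
    | add x y hx hy =>
      obtain ⟨a, rfl⟩ := hx
      obtain ⟨b, rfl⟩ := hy
      exact ⟨a + b, map_add _ _ _⟩
  · intro hp
    rw [Module.notMem_support_iff'] at hp
    obtain ⟨u, hu, hu0⟩ := hp (Submodule.Quotient.mk 1)
    rw [← Submodule.Quotient.mk_smul, Submodule.Quotient.mk_eq_zero] at hu0
    obtain ⟨r, hr⟩ := hu0
    have hne : algebraMap R κ u ≠ 0 := fun h => hu (Ideal.algebraMap_residueField_eq_zero.1 h)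
    have hcomp : ∀ z, r.lTensor κ (φ.lTensor κ z) = algebraMap R κ u • z := by
      intro z
      rw [← LinearMap.lTensor_comp_apply, show r ∘ₗ φ = u • (1 : Module.End R M) from hr,
        LinearMap.lTensor_smul, LinearMap.smul_apply, Module.End.one_eq_id, LinearMap.lTensor_id,
        LinearMap.id_apply, algebraMap_smul]
    intro a b hab
    have h := congrArg (r.lTensor κ) hab
    rw [hcomp, hcomp] at h
    exact smul_right_injective _ hne h

end Groth.Agent.MLMod.Locus
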