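import Groth.Agent.MLMod.Basic

/-!
# Universally injective maps from solvability of linear equations; products
-/

set_option autoImplicit false
set_option backward.isDefEq.respectTransparency false

universe u

open TensorProduct

namespace Groth.Agent.MLMod

variable {R : Type u} [CommRing R]

/-- An injection through which linear systems descend is universally injective. -/
theorem universallyInjective_of_solvable {C P : Type u} [AddCommGroup C] [Module R C] [AddCommGroup P] [Module R P]
    (j : C →ₗ[R] P)
    (h : ∀ (m n : ℕ) (A : Fin m → Fin n → R) (c : Fin m → C) (x : Fin n → P),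
      (∀ i, j (c i) = ∑ k, A i k • x k) → ∃ x' : Fin n → C, ∀ i, c i = ∑ k, A i k • x' k) :
    CAlgX.UniversallyInjective R j := by
  classical
  intro Z _ _
  rw [injective_iff_map_eq_zero]
  intro z hz
  let π := Finsupp.linearCombination R (id : Z → Z)
  have hπ : Function.Surjective π := Finsupp.linearCombination_id_surjective R Z
  obtain ⟨w, rfl⟩ := LinearMap.lTensor_surjective C hπ z
  let wP := j.rTensor (Z →₀ R) w
  have hw : π.lTensor P wP = 0 := by
    rw [← LinearMap.comp_apply, LinearMap.lTensor_comp_rTensor, ← LinearMap.rTensor_comp_lTensor, LinearMap.comp_apply, hz]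
  have hnc : ∀ t : P ⊗[R] (Z →₀ R),
      π.rTensor P (TensorProduct.comm R P (Z →₀ R) t) = TensorProduct.comm R P Z (π.lTensor P t) := fun t => by
    induction t with
    | zero => simp
    | tmul a b => rfl
    | add a b ha hb => simp only [map_add, ha, hb]
  obtain ⟨y, hy⟩ := mem_range_of_rTensor_eq_zero π hπ P (TensorProduct.comm R P (Z →₀ R) wP)
    (by rw [hnc, hw, map_zero])
  obtain ⟨L, hL, hLker, y', hy'⟩ := exists_fg_of_mem_range (LinearMap.ker π) P y
  haveI : Module.Finite R L := Module.Finite.iff_fg.2 hL
  obtain ⟨n, l, hl⟩ := Module.Finite.exists_fin (R := R) (M := L)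
  obtain ⟨x, rfl⟩ := exists_sum_tmul l hl y'
  have hwP : wP = ∑ k, x k ⊗ₜ (l k : Z →₀ R) := by
    apply (TensorProduct.comm R P (Z →₀ R)).injective
    rw [← hy, ← hy', map_sum, map_sum]
    rfl
  let eC := TensorProduct.finsuppScalarRight R R C Z
  let eP := TensorProduct.finsuppScalarRight R R P Z
  have hnat : ∀ (t : C ⊗[R] (Z →₀ R)) (s : Z), eP (j.rTensor _ t) s = j (eC t s) := by
    intro t s
    induction t with
    | zero => simp
    | tmul a f => simp [eC, eP]
    | add a b ha hb => simp [ha, hb]
  let S : Finset Z := (eC w).support ∪ Finset.univ.biUnion fun k => (l k : Z →₀ R).support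
  let A : Fin S.card → Fin n → R := fun i k => (l k : Z →₀ R) (S.equivFin.symm i).1
  obtain ⟨x', hx'⟩ := h S.card n A (fun i => eC w (S.equivFin.symm i).1) x fun i => by
    show j (eC w _) = _
    rw [← hnat, show j.rTensor (Z →₀ R) w = ∑ k, x k ⊗ₜ (l k : Z →₀ R) from hwP, map_sum,
      Finset.sum_apply']
    exact Finset.sum_congr rfl fun k _ => by simp [eP, A]
  have hwC : w = ∑ k, x' k ⊗ₜ (l k : Z →₀ R) := by
    apply eC.injective
    ext s
    rw [map_sum, Finset.sum_apply']
    by_cases hs : s ∈ S
    · have := hx' (S.equivFin ⟨s, hs⟩)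
      rw [Equiv.symm_apply_apply] at this
      rw [this]
      exact Finset.sum_congr rfl fun k _ => by simp [eC, A]
    · rw [Finsupp.notMem_support_iff.1 fun hh => hs (Finset.mem_union_left _ hh)]
      refine (Finset.sum_eq_zero fun k _ => ?_).symm
      have : (l k : Z →₀ R) s = 0 := Finsupp.notMem_support_iff.1 fun hh =>
        hs (Finset.mem_union_right _ (Finset.mem_biUnion.2 ⟨k, Finset.mem_univ _, hh⟩))
      simp [eC, this]
  rw [hwC, map_sum]
  refine Finset.sum_eq_zero fun k _ => ?_
  rw [LinearMap.lTensor_tmul, show π (l k : Z →₀ R) = 0 from hLker (l k).2, TensorProduct.tmul_zero]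

/-- Products of flat modules over a noetherian ring are flat. -/
theorem flat_pi [IsNoetherianRing R] {A : Type u} (F : A → Type u) [∀ a, AddCommGroup (F a)]
    [∀ a, Module R (F a)] [∀ a, Module.Flat R (F a)] : Module.Flat R (∀ a, F a) := by
  refine Module.Flat.iff_rTensor_injective'.mpr fun I => ?_
  haveI : Module.FinitePresentation R I := Module.finitePresentation_of_finite R I
  rw [injective_iff_map_eq_zero]
  intro x hx
  refine isML_of_finitePresentation A F (funext fun a => ?_)
  rw [map_zero, Pi.zero_apply]
  refine (Module.Flat.rTensor_preserves_injective_linearMap I.subtype Subtype.val_injective) ?_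
  rw [← natural, map_zero]
  exact congrFun ((congrArg _ hx).trans (map_zero _)) a

theorem flat_of_universallyInjective {C P : Type u} [AddCommGroup C] [Module R C] [AddCommGroup P]
    [Module R P] [Module.Flat R P] (j : C →ₗ[R] P) (hj : CAlgX.UniversallyInjective R j) :
    Module.Flat R C := by
  refine Module.Flat.iff_lTensor_injective'.mpr fun I => ?_
  intro a b hab
  refine hj I (Module.Flat.lTensor_preserves_injective_linearMap (M := P) I.subtype Subtype.val_injective ?_)
  have h1 := congrArg (j.rTensor R) hab
  rwa [← LinearMap.comp_apply, ← LinearMap.comp_apply (j.rTensor R), LinearMap.rTensor_comp_lTensor,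
    ← LinearMap.lTensor_comp_rTensor, LinearMap.comp_apply, LinearMap.comp_apply] at h1

end Groth.Agent.MLMod
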